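import Cfsg.Agent.H381.Car.Wp
import Cfsg.Agent.Lib.Cores
import Cfsg.Agent.OddOrderLocal.CNBasic
import Cfsg.Agent.SignalizersComponents.CoprimeBasic

/-!
# Carter subgroups and radical subgroups (S3852, helper381)

* `exists_two_odd` : a finite nilpotent subgroup is `P × O`, `P` a `2`-group, `O` of odd order;
* `RadG p S` : for every `p`-subgroup `Q ≠ 1` of `S` containing `O_p(N_S(Q))` and every `O ≤ N_G(Q)` of odd order with
  `O ∩ S ≤ Q` there is a `2`-subgroup `E ≤ N_S(Q)` with `[O, E] ≤ Q` and `C_Q(E) = 1`;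
* `not_dvd_of_rad` : then `p ∤ |K ∩ S|` as soon as `K ∩ S` is a `{2, p}`-group.
-/

set_option autoImplicit false
set_option linter.unusedSectionVars false
set_option linter.style.haveILetI false

namespace Cfsg.Agent.H381.Car

open Subgroup Pointwise
open Cfsg.Agent.Solvable.Carter Cfsg.Agent.H18.Carter

universe u

section TwoOdd

variable {G : Type u} [Group G] [Finite G]

/-- `K = P × O` -/
theorem exists_two_odd {K : Subgroup G} (hK : Group.IsNilpotent K) :
    ∃ P O : Subgroup G, P ≤ K ∧ O ≤ K ∧ P ⊔ O = K ∧ IsPGroup 2 P ∧ Odd (Nat.card O) ∧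
      (∀ x ∈ P, ∀ y ∈ O, x * y = y * x) ∧ Odd (P.relIndex K) := by
  classical
  haveI : Fact (Nat.Prime 2) := ⟨Nat.prime_two⟩
  haveI := hK
  obtain ⟨R⟩ : Nonempty (Sylow 2 K) := inferInstance
  have hRn : (R : Subgroup K).Normal := by
    have h := ((Group.isNilpotent_of_finite_tfae (G := K)).out 0 3).mp hK
    exact h 2 inferInstance R
  have hidx : Odd (R : Subgroup K).index := by
    rw [Nat.odd_iff, ← Nat.not_even_iff, even_iff_two_dvd]
    exact R.not_dvd_index
  have hco : (Nat.card (R : Subgroup K)).Coprime (R : Subgroup K).index := by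
    obtain ⟨n, hn⟩ := IsPGroup.iff_card.1 R.2
    rw [hn]
    exact Nat.Coprime.pow_left n (Nat.coprime_two_left.2 hidx)
  obtain ⟨H, hH⟩ := exists_right_complement'_of_coprime hco
  have hHc : Nat.card H = (R : Subgroup K).index := hH.symm.index_eq_card.symm
  have hHo : Odd (Nat.card H) := by rw [hHc]; exact hidx
  refine ⟨(R : Subgroup K).map K.subtype, H.map K.subtype, map_subtype_le _, map_subtype_le _, ?_, ?_, ?_, ?_, ?_⟩
  · rw [← Subgroup.map_sup, hH.sup_eq_top, ← MonoidHom.range_eq_map, range_subtype]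
  · exact R.2.map _
  · rw [card_map_of_injective K.subtype_injective]
    exact hHo
  · rintro _ ⟨x, hx, rfl⟩ _ ⟨y, hy, rfl⟩
    obtain ⟨n, hn⟩ := (IsPGroup.iff_orderOf.1 R.2) ⟨x, hx⟩
    rw [orderOf_mk] at hn
    have h1 : Odd (orderOf y) := by
      have h2 : orderOf y ∣ Nat.card H := by
        rw [← orderOf_mk y hy]
        exact orderOf_dvd_natCard _
      exact hHo.of_dvd_nat h2
    have h2 : (orderOf x).Coprime (orderOf y) := by
      rw [hn]
      exact Nat.Coprime.pow_left n (Nat.coprime_two_left.2 h1)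
    exact congrArg Subtype.val (Cfsg.Agent.OddOrderLocal.CNBasic.commute_of_coprime_orderOf (C := K) h2)
  · have h1 : ((R : Subgroup K).map K.subtype).relIndex K = (R : Subgroup K).index := by
      rw [relIndex]
      congr 1
      ext y
      rw [mem_subgroupOf]
      constructor
      · rintro ⟨z, hz, hzy⟩
        have : z = y := Subtype.ext hzy
        exact this ▸ hz
      · intro hy; exact ⟨y, hy, rfl⟩
    rw [h1]
    exact hidx

end TwoOdd

section Rel

variable {G : Type u} [Group G] [Finite G]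

/-- `|KQ : K| |K ∩ Q| = |Q|` -/
theorem relIndex_sup_mul {K Q : Subgroup G} (h : K ≤ normalizer (Q : Set G)) :
    K.relIndex (K ⊔ Q) * Nat.card ↥(K ⊓ Q) = Nat.card Q := by
  set M : Subgroup G := normalizer (Q : Set G) with hM
  have hQM : Q ≤ M := le_normalizer
  haveI : (Q.subgroupOf M).Normal := normal_subgroupOf_of_le_normalizer le_rfl
  have h1 : Q.relIndex (K ⊔ Q) = Q.relIndex K := by
    rw [← relIndex_subgroupOf (H := Q) (sup_le h hQM), ← relIndex_subgroupOf (H := Q) h, subgroupOf_sup h hQM,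
      relIndex_sup_right]
  have h2 : Nat.card Q * Q.relIndex (K ⊔ Q) = Nat.card ↥(K ⊔ Q) := by
    rw [← relIndex_bot_left, ← relIndex_bot_left, relIndex_mul_relIndex ⊥ Q (K ⊔ Q) bot_le le_sup_right]
  have h3 : Nat.card K * K.relIndex (K ⊔ Q) = Nat.card ↥(K ⊔ Q) := by
    rw [← relIndex_bot_left, ← relIndex_bot_left, relIndex_mul_relIndex ⊥ K (K ⊔ Q) bot_le le_sup_left]
  have h4 : Nat.card ↥(K ⊓ Q) * Q.relIndex K = Nat.card K := by
    have h5 : Q.relIndex K = (K ⊓ Q).relIndex K := by rw [← inf_relIndex_right Q K, inf_comm]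
    rw [h5, ← relIndex_bot_left, ← relIndex_bot_left, relIndex_mul_relIndex ⊥ (K ⊓ Q) K bot_le inf_le_left]
  have h5 : Nat.card K ≠ 0 := Nat.card_pos.ne'
  apply mul_left_cancel₀ h5
  rw [← mul_assoc, h3, ← h2, h1, mul_assoc, mul_comm (Q.relIndex K), h4, mul_comm]

end Rel

section Cent

variable {G : Type u} [Group G]

/-- the elements of `N(Q)` centralising `O` modulo `Q` -/
def centMod (Q O : Subgroup G) : Subgroup G where
  carrier := {x | x ∈ normalizer (Q : Set G) ∧ ∀ o ∈ O, x * o * x⁻¹ * o⁻¹ ∈ Q}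
  one_mem' := ⟨one_mem _, fun o _ => by simp⟩
  mul_mem' := by
    rintro x y ⟨hx, hx'⟩ ⟨hy, hy'⟩
    refine ⟨mul_mem hx hy, fun o ho => ?_⟩
    have h1 := (mem_normalizer_iff.1 hx _).1 (hy' o ho)
    have e : x * y * o * (x * y)⁻¹ * o⁻¹ = (x * (y * o * y⁻¹ * o⁻¹) * x⁻¹) * (x * o * x⁻¹ * o⁻¹) := by group
    rw [e]
    exact mul_mem h1 (hx' o ho)
  inv_mem' := by
    rintro x ⟨hx, hx'⟩
    refine ⟨inv_mem hx, fun o ho => ?_⟩
    have h1 := (mem_normalizer_iff.1 (inv_mem hx) _).1 (inv_mem (hx' o ho))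
    have e : x⁻¹ * o * x⁻¹⁻¹ * o⁻¹ = x⁻¹ * (x * o * x⁻¹ * o⁻¹)⁻¹ * x⁻¹⁻¹ := by group
    rw [e]
    exact h1

theorem mem_centMod {Q O : Subgroup G} {x : G} :
    x ∈ centMod Q O ↔ x ∈ normalizer (Q : Set G) ∧ ∀ o ∈ O, x * o * x⁻¹ * o⁻¹ ∈ Q := Iff.rfl

end Cent

variable {G : Type u} [Group G] [Finite G]

/-- the `E`-property of radical `p`-subgroups -/
def RadG (p : ℕ) (S : Subgroup G) : Prop :=
  ∀ Q : Subgroup G, Q ≤ S → IsPGroup p Q → Q ≠ ⊥ →
    (∀ R : Subgroup G, R ≤ S → IsPGroup p R → R ≤ normalizer (Q : Set G) →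
      S ⊓ normalizer (Q : Set G) ≤ normalizer (R : Set G) → R ≤ Q) →
    ∀ O : Subgroup G, O ≤ normalizer (Q : Set G) → Odd (Nat.card O) → O ⊓ S ≤ Q →
      ∃ E : Subgroup G, E ≤ S ∧ E ≤ normalizer (Q : Set G) ∧ IsPGroup 2 E ∧
        (∀ o ∈ O, ∀ x ∈ E, x * o * x⁻¹ * o⁻¹ ∈ Q) ∧ ∀ z ∈ Q, (∀ x ∈ E, x * z = z * x) → z = 1

variable {S : Subgroup G} [S.Normal]

/-- a `K`-invariant `p`-subgroup of `S` which is maximal is radical -/
theorem radical_of_maximal {p : ℕ} [Fact p.Prime] {K Q : Subgroup G} (hQS : Q ≤ S) (hQp : IsPGroup p Q)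
    (hKQ : K ≤ normalizer (Q : Set G))
    (hmax : ∀ R : Subgroup G, R ≤ S → IsPGroup p R → K ≤ normalizer (R : Set G) → Q ≤ R → R ≤ Q) {R : Subgroup G}
    (hRS : R ≤ S) (hRp : IsPGroup p R) (hRQ : R ≤ normalizer (Q : Set G))
    (hn : S ⊓ normalizer (Q : Set G) ≤ normalizer (R : Set G)) : R ≤ Q := by
  set M : Subgroup G := normalizer (Q : Set G) with hM
  set H : Subgroup M := S.subgroupOf M with hH
  haveI hHn : H.Normal := inferInstance
  set C : Subgroup H := Cfsg.pCore p H with hC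
  haveI hCc : C.Characteristic := Cfsg.Agent.Lib.Cores.pCore_characteristic (G := H) p
  have hCn : (C.map H.subtype).Normal := ConjAct.normal_of_characteristic_of_normal
  set R' : Subgroup G := (C.map H.subtype).map M.subtype with hR'
  have hR'p : IsPGroup p R' := ((Cfsg.Agent.Lib.Cores.pCore_isPGroup (G := H) p).map _).map _
  have hR'S : R' ≤ S := by
    rintro _ ⟨_, ⟨y, hy, rfl⟩, rfl⟩
    exact mem_subgroupOf.1 y.2
  have hR'M : R' ≤ M := map_subtype_le _
  have hMR' : M ≤ normalizer (R' : Set G) := by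
    intro m hm
    rw [mem_normalizer_iff]
    intro x
    constructor
    · rintro ⟨y, hy, rfl⟩
      exact ⟨⟨m, hm⟩ * y * ⟨m, hm⟩⁻¹, hCn.conj_mem y hy _, by simp⟩
    · rintro ⟨y, hy, hyx⟩
      refine ⟨⟨m, hm⟩⁻¹ * y * ⟨m, hm⟩, ?_, ?_⟩
      · have := hCn.conj_mem y hy ⟨m, hm⟩⁻¹
        rwa [inv_inv] at this
      · simp only [coe_subtype, coe_mul, coe_inv] at hyx ⊢
        rw [hyx]; group
  have h1 : Q ⊔ R' ≤ Q := by
    refine hmax _ (sup_le hQS hR'S) ?_ ?_ le_sup_left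
    · rw [sup_comm]
      exact hR'p.to_sup_of_normal_right' hQp hR'M
    · exact le_normalizer_sup hKQ (hKQ.trans hMR')
  refine le_trans ?_ (le_sup_right.trans h1)
  -- `R ≤ R'`
  have h2 : ((R.subgroupOf M).subgroupOf H).Normal := by
    refine ⟨fun y hy g => ?_⟩
    rw [mem_subgroupOf, mem_subgroupOf] at hy ⊢
    have hg : ((g : M) : G) ∈ S ⊓ normalizer (Q : Set G) := ⟨mem_subgroupOf.1 g.2, (g : M).2⟩
    exact (mem_normalizer_iff.1 (hn hg) _).1 hy
  have h3 : IsPGroup p ((R.subgroupOf M).subgroupOf H) :=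
    (hRp.comap_of_injective M.subtype M.subtype_injective).comap_of_injective H.subtype H.subtype_injective
  have h4 := Cfsg.Agent.Lib.Cores.le_pCore h2 h3
  intro x hx
  refine ⟨⟨x, hRQ hx⟩, ⟨⟨⟨x, hRQ hx⟩, mem_subgroupOf.2 (hRS hx)⟩, h4 ?_, rfl⟩, rfl⟩
  exact hx

/-- **The radical subgroup argument.** -/
theorem not_dvd_of_rad {p : ℕ} [hp : Fact p.Prime] (hp2 : p ≠ 2) (hR : RadG p S) {K : Subgroup G}
    (hK : IsCarter K) (hd : ∀ l : ℕ, l.Prime → l ∣ Nat.card ↥(K ⊓ S) → l = 2 ∨ l = p) :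
    ¬ p ∣ Nat.card ↥(K ⊓ S) := by
  classical
  intro hpd
  obtain ⟨P, O, hPK, hOK, hPO, hP2, hOo, hcomm, hPidx⟩ := exists_two_odd hK.1
  -- the maximal `K`-invariant `p`-subgroup
  let 𝒮 : Set (Subgroup G) := {Q | Q ≤ S ∧ IsPGroup p Q ∧ K ≤ normalizer (Q : Set G)}
  have hbot : (⊥ : Subgroup G) ∈ 𝒮 := ⟨bot_le, IsPGroup.of_bot, le_normalizer_of_normal _ _⟩
  obtain ⟨Q, ⟨hQS, hQp, hKQ⟩, hmax⟩ := (Set.toFinite 𝒮).exists_maximal ⟨_, hbot⟩
  -- `O ∩ S ≤ Q`
  have hKO : K ≤ normalizer (O : Set G) := by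
    rw [← hPO]
    refine sup_le ?_ le_normalizer
    intro x hx
    rw [mem_normalizer_iff]
    intro y
    constructor
    · intro hy
      rw [hcomm x hx y hy, mul_inv_cancel_right]
      exact hy
    · intro hy
      have h1 := hcomm x hx _ hy
      have h2 : y = x * y * x⁻¹ := by
        have h3 : x * y = x * (x * y * x⁻¹) := by rw [h1]; group
        exact mul_left_cancel h3
      rw [h2]; exact hy
  have hOSp : IsPGroup p ↥(O ⊓ S) := by
    rw [IsPGroup.iff_card]
    refine ⟨_, Nat.eq_prime_pow_of_unique_prime_dvd Nat.card_pos.ne' ?_⟩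
    intro l hl hld
    rcases hd l hl (hld.trans (card_dvd_of_le (inf_le_inf_right S hOK))) with h | h
    · exfalso
      rw [h] at hld
      have h1 : 2 ∣ Nat.card O := hld.trans (card_dvd_of_le inf_le_left)
      exact (Nat.not_even_iff_odd.2 hOo) (even_iff_two_dvd.2 h1)
    · exact h
  have hOSQ : O ⊓ S ≤ Q := by
    have h1 : (O ⊓ S) ⊔ Q ∈ 𝒮 := by
      refine ⟨sup_le inf_le_right hQS, ?_, ?_⟩
      · exact hOSp.to_sup_of_normal_right' hQp ((inf_le_left.trans hOK).trans hKQ)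
      · exact le_normalizer_sup (le_normalizer_inf hKO (le_normalizer_of_normal _ _)) hKQ
    exact le_sup_left.trans (hmax h1 le_sup_right)
  -- an element of order `p`
  obtain ⟨z, hzS, hzK, hzo, hzc⟩ := exists_central (S := S) hK.1 hpd
  have hzO : z ∈ O := by
    rw [← hPO] at hzK
    have hPn : O ≤ normalizer (P : Set G) := by
      intro x hx
      rw [mem_normalizer_iff]
      intro y
      constructor
      · intro hy
        rw [← hcomm y hy x hx, mul_inv_cancel_right]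
        exact hy
      · intro hy
        have h1 := hcomm _ hy x hx
        have h2 : y = x * y * x⁻¹ := by
          have h3 : x * y = x * (x * y * x⁻¹) := by rw [← h1]; group
          exact mul_left_cancel h3
        rw [h2]; exact hy
    obtain ⟨a, ha, b, hb, rfl⟩ := mul_mem_of_norm hPn hzK
    have hab : Commute a b := hcomm a ha b hb
    obtain ⟨n, hn⟩ := (IsPGroup.iff_orderOf.1 hP2) ⟨a, ha⟩
    rw [orderOf_mk] at hn
    have hbo : Odd (orderOf b) := by
      have h2 : orderOf b ∣ Nat.card O := by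
        rw [← orderOf_mk b hb]
        exact orderOf_dvd_natCard _
      exact hOo.of_dvd_nat h2
    have hcop : (orderOf a).Coprime (orderOf b) := by
      rw [hn]
      exact Nat.Coprime.pow_left n (Nat.coprime_two_left.2 hbo)
    rw [hab.orderOf_mul_eq_mul_orderOf_of_coprime hcop] at hzo
    have h3 : orderOf a = 1 := by
      rcases (Nat.dvd_prime hp.out).1 (Dvd.intro _ hzo) with h | h
      · exact h
      · exfalso
        rw [hn] at h
        have h4 : p ∣ 2 ^ n := by rw [h]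
        have h5 := (Nat.prime_dvd_prime_iff_eq hp.out Nat.prime_two).1 (hp.out.dvd_of_dvd_pow h4)
        exact hp2 h5
    rw [orderOf_eq_one_iff] at h3
    rw [h3, one_mul]
    exact hb
  have hzQ : z ∈ Q := hOSQ ⟨hzO, hzS⟩
  have hz1 : z ≠ 1 := by
    rintro rfl
    rw [orderOf_one] at hzo
    exact hp.out.one_lt.ne hzo
  have hQb : Q ≠ ⊥ := by
    intro h
    rw [h, mem_bot] at hzQ
    exact hz1 hzQ
  obtain ⟨E, hES, hEQ, hE2, hEO, hEz⟩ := hR Q hQS hQp hQb
    (fun R hRS hRp hRQ hn => radical_of_maximal hQS hQp hKQ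
      (fun R h1 h2 h3 h4 => hmax (show R ∈ 𝒮 from ⟨h1, h2, h3⟩) h4) hRS hRp hRQ hn)
    O (hOK.trans hKQ) hOo hOSQ
  -- `K₂` is a Sylow `2`-subgroup of `C`
  set C : Subgroup G := centMod Q O with hC
  have hPC : P ≤ C := by
    intro x hx
    refine mem_centMod.2 ⟨hKQ (hPK hx), fun o ho => ?_⟩
    rw [hcomm x hx o ho, mul_inv_cancel_right, mul_inv_cancel]
    exact one_mem _
  have hEC : E ≤ C := fun x hx => mem_centMod.2 ⟨hEQ hx, fun o ho => hEO o ho x hx⟩
  have hKQs : Group.IsSolvable ↥(K ⊔ Q) := by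
    have hKs : Group.IsSolvable K := by
      have := hK.1
      infer_instance
    have hQs : Group.IsSolvable Q := by
      have : Group.IsNilpotent Q := hQp.isNilpotent
      infer_instance
    rw [sup_comm]
    exact Cfsg.Agent.SignalizersComponents.CoprimeBasic.isSolvable_sup hKQ hQs hKs
  have hnKQ : normalizer ((K ⊔ Q : Subgroup G) : Set G) ≤ K ⊔ Q :=
    norm_le_of_carter (CC.of_solvable hKQs) hK le_sup_left
  have hPKQ : Odd (P.relIndex (K ⊔ Q)) := by
    rw [← relIndex_mul_relIndex P K (K ⊔ Q) hPK le_sup_left]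
    refine hPidx.mul ?_
    have h1 := relIndex_sup_mul hKQ
    obtain ⟨n, hn⟩ := IsPGroup.iff_card.1 hQp
    rw [hn] at h1
    refine Odd.of_dvd_nat ?_ (Dvd.intro _ h1)
    exact (hp.out.odd_of_ne_two hp2).pow
  have hsyl : ∀ R : Subgroup G, R ≤ C → IsPGroup 2 R → P ≤ R → R ≤ P := by
    intro R hRC hR2 hPR
    by_contra hne
    have hnil : Group.IsNilpotent R := hR2.isNilpotent
    have h1 : P.subgroupOf R < ⊤ := by
      rw [lt_top_iff_ne_top]
      intro h
      exact hne (subgroupOf_eq_top.1 h)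
    have h2 := Group.normalizerCondition_of_isNilpotent (G := R) _ h1
    rw [← subgroupOf_normalizer_eq hPR] at h2
    obtain ⟨⟨x, hxR⟩, hx1, hx2⟩ := SetLike.exists_of_lt h2
    rw [mem_subgroupOf] at hx1 hx2
    simp only at hx1 hx2
    have hxC := mem_centMod.1 (hRC hxR)
    -- `x` normalises `K Q`
    have h3 : x ∈ normalizer ((K ⊔ Q : Subgroup G) : Set G) := by
      have key : ∀ x : G, x ∈ C → x ∈ normalizer (P : Set G) → MulAut.conj x • (K ⊔ Q) ≤ K ⊔ Q := by
        intro x hxC hxP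
        obtain ⟨h4, h5⟩ := mem_centMod.1 hxC
        rw [Subgroup.smul_sup, cj_eq_self_iff.2 h4]
        refine sup_le ?_ le_sup_right
        rw [← hPO, Subgroup.smul_sup, cj_eq_self_iff.2 hxP]
        refine sup_le (le_sup_left.trans le_sup_left) ?_
        intro y hy
        rw [mem_cj] at hy
        have h6 := h5 _ hy
        have e : y = (x * (x⁻¹ * y * x) * x⁻¹ * (x⁻¹ * y * x)⁻¹) * (x⁻¹ * y * x) := by group
        rw [e]
        exact mul_mem (mem_sup_right h6) (mem_sup_left (mem_sup_right hy))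
      rw [← cj_eq_self_iff]
      refine le_antisymm (key x (hRC hxR) hx1) ?_
      have h7 := key x⁻¹ (inv_mem (hRC hxR)) (inv_mem hx1)
      have h8 : MulAut.conj x • (MulAut.conj x⁻¹ • (K ⊔ Q)) ≤ MulAut.conj x • (K ⊔ Q) :=
        Subgroup.pointwise_smul_le_pointwise_smul_iff.2 h7
      rwa [cj_cj, mul_inv_cancel, cj_one] at h8
    have h4 : x ∈ R ⊓ (K ⊔ Q) := ⟨hxR, hnKQ h3⟩
    have h5 : P ≤ R ⊓ (K ⊔ Q) := le_inf hPR (hPK.trans le_sup_left)
    have h6 : P.relIndex (R ⊓ (K ⊔ Q)) = 1 := by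
      have h7 : P.relIndex (R ⊓ (K ⊔ Q)) ∣ P.relIndex (K ⊔ Q) := by
        rw [← relIndex_mul_relIndex P (R ⊓ (K ⊔ Q)) (K ⊔ Q) h5 inf_le_right]
        exact dvd_mul_right _ _
      have h8 : Odd (P.relIndex (R ⊓ (K ⊔ Q))) := hPKQ.of_dvd_nat h7
      have h9 : IsPGroup 2 ↥(R ⊓ (K ⊔ Q)) := hR2.to_le inf_le_left
      obtain ⟨n, hn⟩ := IsPGroup.iff_card.1 h9
      have h10 : P.relIndex (R ⊓ (K ⊔ Q)) ∣ 2 ^ n := by
        rw [← hn]
        exact relIndex_dvd_card _ _
      obtain ⟨m, -, hm⟩ := (Nat.dvd_prime_pow Nat.prime_two).1 h10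
      rw [hm] at h8 ⊢
      rcases Nat.eq_zero_or_pos m with h0 | h0
      · rw [h0, pow_zero]
      · exfalso
        exact (Nat.not_even_iff_odd.2 h8) (Nat.even_pow.2 ⟨even_two, h0.ne'⟩)
    rw [relIndex_eq_one] at h6
    exact hx2 (h6 h4)
  -- a conjugate of `E` lies in `P`
  haveI : Fact (Nat.Prime 2) := ⟨Nat.prime_two⟩
  obtain ⟨R1, hR1⟩ := (hP2.comap_of_injective C.subtype C.subtype_injective : IsPGroup 2 (P.subgroupOf C)).exists_le_sylow
  obtain ⟨R2, hR2⟩ := (hE2.comap_of_injective C.subtype C.subtype_injective : IsPGroup 2 (E.subgroupOf C)).exists_le_sylow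
  have hR1P : ((R1 : Subgroup C).map C.subtype) ≤ P := by
    refine hsyl _ (map_subtype_le _) (R1.2.map _) ?_
    intro x hx
    exact ⟨⟨x, hPC hx⟩, hR1 (mem_subgroupOf.2 hx), rfl⟩
  obtain ⟨g, hg⟩ := MulAction.exists_smul_eq C R2 R1
  have hEP : ∀ x ∈ E, (g : G) * x * (g : G)⁻¹ ∈ P := by
    intro x hx
    have h1 : (⟨x, hEC hx⟩ : C) ∈ (R2 : Subgroup C) := hR2 (mem_subgroupOf.2 hx)
    have h2 : g * ⟨x, hEC hx⟩ * g⁻¹ ∈ (R1 : Subgroup C) := by
      rw [← hg, Sylow.coe_subgroup_smul]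
      exact cj_mem h1
    exact hR1P ⟨_, h2, rfl⟩
  have hgQ := (mem_centMod.1 g.2).1
  have h1 : (g : G)⁻¹ * z * g ∈ Q := by
    have := (mem_normalizer_iff.1 (inv_mem hgQ) z).1 hzQ
    rwa [inv_inv] at this
  have h2 := hEz _ h1 fun x hx => by
    have h3 := hcomm _ (hEP x hx) z hzO
    calc x * ((g : G)⁻¹ * z * g) = (g : G)⁻¹ * ((g : G) * x * (g : G)⁻¹ * z) * g := by group
      _ = (g : G)⁻¹ * (z * ((g : G) * x * (g : G)⁻¹)) * g := by rw [h3]
      _ = _ := by group
  apply hz1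
  calc z = g * ((g : G)⁻¹ * z * g) * (g : G)⁻¹ := by group
    _ = 1 := by rw [h2]; group

/-- the `E`-property of a group `Y`, in terms of its automorphisms -/
def RadY (p : ℕ) (Y : Type*) [Group Y] : Prop :=
  ∀ Q : Subgroup Y, IsPGroup p Q → Q ≠ ⊥ →
    (∀ R : Subgroup Y, IsPGroup p R → R ≤ normalizer (Q : Set Y) →
      normalizer (Q : Set Y) ≤ normalizer (R : Set Y) → R ≤ Q) →
    ∀ A : Subgroup (MulAut Y), Odd (Nat.card A) → (∀ a ∈ A, ∀ y, a y ∈ Q ↔ y ∈ Q) →
      (∀ y : Y, MulAut.conj y ∈ A → y ∈ Q) →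
      ∃ E : Subgroup Y, E ≤ normalizer (Q : Set Y) ∧ IsPGroup 2 E ∧ (∀ a ∈ A, ∀ x ∈ E, x * (a x)⁻¹ ∈ Q) ∧
        ∀ z ∈ Q, (∀ x ∈ E, x * z = z * x) → z = 1

section Trans

variable {Y : Type*} [Group Y] (e : S ≃* Y)

/-- `G → Aut Y` -/
noncomputable def psi : G →* MulAut Y where
  toFun g := (e.symm.trans (MulAut.conjNormal g : MulAut S)).trans e
  map_one' := by ext y; simp
  map_mul' a b := by ext y; simp [MulAut.mul_apply]

theorem psi_apply (g : G) (y : Y) : psi e g y = e (MulAut.conjNormal g (e.symm y)) := rfl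

theorem coe_symm_psi (g : G) (y : Y) : ((e.symm (psi e g y) : S) : G) = g * (e.symm y : S) * g⁻¹ := by
  rw [psi_apply, MulEquiv.symm_apply_apply, MulAut.conjNormal_apply]

theorem mem_of_psi_conj (hC : centralizer (S : Set G) = ⊥) {g : G} {y : Y} (h : psi e g = MulAut.conj y) :
    g = (e.symm y : S) := by
  have h1 : ((e.symm y : S) : G)⁻¹ * g ∈ centralizer (S : Set G) := by
    intro s hs
    have h2 := congrArg (fun a : MulAut Y => ((e.symm (a (e ⟨s, hs⟩)) : S) : G)) h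
    simp only [coe_symm_psi, MulEquiv.symm_apply_apply, MulAut.conj_apply, map_mul, map_inv, Subgroup.coe_mul,
      Subgroup.coe_inv] at h2
    have h3 : g * s = (e.symm y : S) * s * ((e.symm y : S) : G)⁻¹ * g := by rw [← h2]; group
    calc s * (((e.symm y : S) : G)⁻¹ * g) = ((e.symm y : S) : G)⁻¹ * ((e.symm y : S) * s * ((e.symm y : S) : G)⁻¹ * g) := by
          group
      _ = ((e.symm y : S) : G)⁻¹ * g * s := by rw [← h3]; group
  rw [hC, mem_bot, inv_mul_eq_one] at h1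
  exact h1.symm

include e in
theorem radG_of {p : ℕ} (hC : centralizer (S : Set G) = ⊥) (h : RadY p Y) : RadG p S := by
  intro Q hQS hQp hQb hrad O hOQ hOo hOS
  set f : Y →* G := S.subtype.comp e.symm.toMonoidHom with hf
  have hfi : Function.Injective f := S.subtype_injective.comp e.symm.injective
  have hfS : ∀ y, f y ∈ S := fun y => (e.symm y).2
  have hfe : ∀ s (hs : s ∈ S), f (e ⟨s, hs⟩) = s := fun s hs => by simp [hf]
  have hfpsi : ∀ g y, f (psi e g y) = g * f y * g⁻¹ := fun g y => coe_symm_psi e g y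
  set Q' : Subgroup Y := Q.comap f with hQ'
  have hnor : ∀ (R : Subgroup G) (y : Y), R ≤ S → (y ∈ normalizer ((R.comap f : Subgroup Y) : Set Y) ↔ f y ∈ normalizer (R : Set G)) := by
    intro R y hR
    rw [mem_normalizer_iff, mem_normalizer_iff]
    constructor
    · intro h1 g
      constructor
      · intro hg
        have h2 := (h1 (e ⟨g, hR hg⟩)).1 (by rw [mem_comap, hfe]; exact hg)
        rwa [mem_comap, map_mul, map_mul, map_inv, hfe] at h2
      · intro hg
        have h3 : g ∈ S := by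
          have h4 := mul_mem (mul_mem (inv_mem (hfS y)) (hR hg)) (hfS y)
          have e1 : (f y)⁻¹ * (f y * g * (f y)⁻¹) * f y = g := by group
          rwa [e1] at h4
        have h2 := (h1 (e ⟨g, h3⟩)).2 (by rw [mem_comap, map_mul, map_mul, map_inv, hfe]; exact hg)
        rwa [mem_comap, hfe] at h2
    · intro h1 x
      rw [mem_comap, mem_comap, map_mul, map_mul, map_inv]
      exact h1 (f x)
  have main := h Q' (hQp.comap_of_injective f hfi) ?_ ?_ (O.map (psi e)) ?_ ?_ ?_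
  · obtain ⟨E, hE1, hE2, hE3, hE4⟩ := main
    refine ⟨E.map f, ?_, ?_, hE2.map _, ?_, ?_⟩
    · rintro _ ⟨y, -, rfl⟩
      exact hfS y
    · rintro _ ⟨y, hy, rfl⟩
      exact (hnor Q y hQS).1 (hE1 hy)
    · rintro o ho _ ⟨x, hx, rfl⟩
      have h1 := hE3 (psi e o) ⟨o, ho, rfl⟩ x hx
      rw [hQ', mem_comap, map_mul, map_inv, hfpsi] at h1
      have e1 : f x * o * (f x)⁻¹ * o⁻¹ = f x * (o * f x * o⁻¹)⁻¹ := by group
      rw [e1]
      exact h1
    · intro z hz h1
      have h2 := hE4 (e ⟨z, hQS hz⟩) (by rw [hQ', mem_comap, hfe]; exact hz) fun x hx => by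
        apply hfi
        rw [map_mul, map_mul, hfe]
        exact h1 _ ⟨x, hx, rfl⟩
      have h3 := congrArg f h2
      rwa [hfe, map_one] at h3
  · intro h1
    apply hQb
    rw [eq_bot_iff]
    intro q hq
    have h2 : e ⟨q, hQS hq⟩ ∈ Q' := by rw [hQ', mem_comap, hfe]; exact hq
    rw [h1, mem_bot] at h2
    have h3 := congrArg f h2
    rw [hfe, map_one] at h3
    rw [mem_bot]; exact h3
  · intro R hRp hRQ hRn
    have hRS : R.map f ≤ S := by
      rintro _ ⟨y, -, rfl⟩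
      exact hfS y
    have hcm : (R.map f).comap f = R := comap_map_eq_self_of_injective hfi R
    have h1 := hrad (R.map f) hRS (hRp.map _) (by
      rintro _ ⟨y, hy, rfl⟩
      exact (hnor Q y hQS).1 (hRQ hy)) (by
      rintro g ⟨hgS, hgQ⟩
      have h2 : e ⟨g, hgS⟩ ∈ normalizer (Q' : Set Y) := by
        rw [hQ', hnor Q _ hQS, hfe]
        exact hgQ
      have h3 := hRn h2
      rw [← hcm, hnor _ _ hRS, hfe] at h3
      exact h3)
    intro y hy
    exact h1 ⟨y, hy, rfl⟩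
  · refine hOo.of_dvd_nat ?_
    exact card_map_dvd _ _
  · rintro _ ⟨o, ho, rfl⟩ y
    rw [hQ', mem_comap, mem_comap, hfpsi]
    exact (mem_normalizer_iff.1 (hOQ ho) _).symm
  · rintro y ⟨o, ho, hoy⟩
    have h1 := mem_of_psi_conj e hC hoy
    have h2 : f y = o := h1.symm
    rw [hQ', mem_comap, h2]
    exact hOS ⟨ho, h2 ▸ hfS y⟩

end Trans

end Cfsg.Agent.H381.Car
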