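import Cfsg.Agent.H696.GmnUntw
import Cfsg.Agent.KFacts.RgdFiltChev
import Cfsg.Agent.H381.Car.Rad

/-!
# Parabolic subgroups in the union of a tower of root group data (S3852, helper381)

* `PJ_le_normalizer_VJL`, `isPGroup_VJL`, `eq_one_of_centralizer`;
* `lang_VJ`, `lang_PJ` : Lang's theorem for the parabolic subgroups of `D.group k`;
* `radical_eq` : radical `p`-subgroups of a finite group with a filtered root group datum.
-/

set_option autoImplicit false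
set_option linter.unusedSectionVars false

namespace Cfsg.Agent.H381.Car

open CoxeterSystem Subgroup Cfsg Cfsg.Lie Cfsg.Lie.ChevalleyDatum
open Cfsg.Agent.ChevalleyStructure Cfsg.Agent.ChevalleyStructure.Elts Cfsg.Agent.ChevalleyStructure.CoxeterGeom
  Cfsg.Agent.ChevalleyStructure.CoxeterGeomTypes Cfsg.Agent.ChevalleyStructure.NPerm
open Cfsg.Agent.Tits.Roots Cfsg.Agent.Tits.Core Cfsg.Agent.Nodes Cfsg.Agent.Nodes.Reps Cfsg.Agent.Nodes.BNOf
  Cfsg.Agent.Nodes.RGDChev Cfsg.Agent.Nodes.Bruhat Cfsg.Agent.Nodes.StabComb Cfsg.Agent.Nodes.LeviDec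
open Cfsg.Agent.KFacts.RgdField Cfsg.Agent.KFacts.RgdChevCoord
open Cfsg.Agent.BpExc Cfsg.Agent.BpExc.TorCent Cfsg.Agent.BpExc.TorChev Cfsg.Agent.BpExc.Tow
open Cfsg.Agent.BpExc.TowChev Cfsg.Agent.BpExc.Fr Cfsg.Agent.BpExc.LangFr

section Radical

variable {I W Y : Type*} [Fintype I] [DecidableEq I] [Group W] [Group Y] {M : CoxeterMatrix I}
  {cs : CoxeterSystem M W} {A : I → I → ℤ} {h : IsCartan M A} {p : ℕ} {T : Subgroup Y} {n : I → Y}
  {X : (I → ℤ) → Subgroup Y}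

/-- a `p`-subgroup `V ≥ Q` with `V ∩ N(Q) ≤ Q` is `Q` -/
theorem eq_of_inf_normalizer_le [Finite Y] [Fact p.Prime] {Q V : Subgroup Y} (hQV : Q ≤ V) (hV : IsPGroup p V)
    (h1 : V ⊓ normalizer (Q : Set Y) ≤ Q) : V = Q := by
  by_contra hne
  have hnil : Group.IsNilpotent V := hV.isNilpotent
  have h2 : Q.subgroupOf V < ⊤ := by
    rw [lt_top_iff_ne_top]
    intro h3
    exact hne (le_antisymm (subgroupOf_eq_top.1 h3) hQV)
  have h3 := Group.normalizerCondition_of_isNilpotent (G := V) _ h2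
  rw [← subgroupOf_normalizer_eq hQV] at h3
  obtain ⟨⟨x, hxV⟩, hx1, hx2⟩ := SetLike.exists_of_lt h3
  rw [mem_subgroupOf] at hx1 hx2
  exact hx2 (h1 ⟨hxV, hx1⟩)

theorem le_normalizer_normalizer {Y : Type*} [Group Y] (Q : Subgroup Y) :
    normalizer (Q : Set Y) ≤ normalizer ((normalizer (Q : Set Y) : Subgroup Y) : Set Y) := le_normalizer

/-- **Radical subgroups are the unipotent radicals.** -/
theorem radical_eq [Finite W] [Finite Y] [Fact p.Prime] {R : RGD cs h p T n X}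
    {F : (I → ℤ) → ℝ → Subgroup Y} (hF : KFacts.RgdBorelTits.Filt R F) (hG : Nodes.RGDLib.G1 cs h X = ⊤) {Q : Subgroup Y}
    (hQ : IsPGroup p Q) (hQ1 : Q ≠ ⊥)
    (hrad : ∀ R : Subgroup Y, IsPGroup p R → R ≤ normalizer (Q : Set Y) →
      normalizer (Q : Set Y) ≤ normalizer (R : Set Y) → R ≤ Q) :
    ∃ (g : Y) (J : Set I), J ≠ Set.univ ∧ Q = cj g (VJ cs h X J) ∧ normalizer (Q : Set Y) = cj g (PJ cs h T X J) := by
  obtain ⟨g, J, hJ, h1, h2⟩ := KFacts.RgdFilt.borel_tits_of_filt hF hG hQ hQ1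
  have hV : IsPGroup p (cj g (VJ cs h X J)) := by
    unfold cj
    exact (KFacts.RgdCharP.isPGroup_VJ R J).map _
  have h3 : cj g (PJ cs h T X J) ≤ normalizer ((cj g (VJ cs h X J) : Subgroup Y) : Set Y) := by
    rw [Nodes.NormX.normalizer_cj]
    exact cj_mono g (PJ_le_normalizer_VJ R J)
  have h4 : cj g (VJ cs h X J) = Q := by
    refine eq_of_inf_normalizer_le h1 hV ?_
    refine hrad _ (hV.to_le inf_le_left) inf_le_right ?_
    exact le_normalizer_inf (h2.trans h3) le_normalizer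
  refine ⟨g, J, hJ, h4.symm, le_antisymm h2 ?_⟩
  rwa [h4] at h3

end Radical

section Lim

variable {I W Y : Type*} [Fintype I] [DecidableEq I] [Group W] [Group Y] {M : CoxeterMatrix I}
  {cs : CoxeterSystem M W} {A : I → I → ℤ} {h : IsCartan M A} {p : ℕ}
variable {J' : Type*} [Preorder J'] {T : J' → Subgroup Y} {n : I → Y} {X : J' → (I → ℤ) → Subgroup Y}
  (H : Tow cs h p T n X)

theorem PJL_eq (J : Set I) : PJ cs h (TL T) (XL X) J = ⨆ j, PJ cs h (T j) (X j) J := by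
  unfold PJ LJ VJ TL
  rw [Sup_eq, Sup_eq, iSup_sup_eq, iSup_sup_eq]

include H

theorem mem_PJL {J : Set I} {y : Y} : y ∈ PJ cs h (TL T) (XL X) J ↔ ∃ j, y ∈ PJ cs h (T j) (X j) J := by
  rw [PJL_eq]
  exact H.mem_iSup fun a b hab => sup_le_sup (sup_le_sup (H.monoT hab) (H.mono_Sup _ hab)) (H.mono_Sup _ hab)

theorem PJL_conj_mem {J : Set I} {y v : Y} (hy : y ∈ PJ cs h (TL T) (XL X) J) (hv : v ∈ VJ cs h (XL X) J) :
    y * v * y⁻¹ ∈ VJ cs h (XL X) J := by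
  obtain ⟨j1, h1⟩ := (mem_PJL H).1 hy
  obtain ⟨j2, h2⟩ := H.mem_Sup.1 hv
  obtain ⟨j, a, b⟩ := H.dir j1 j2
  have h3 : y ∈ PJ cs h (T j) (X j) J :=
    (sup_le_sup (sup_le_sup (H.monoT a) (H.mono_Sup _ a)) (H.mono_Sup _ a) :
      PJ cs h (T j1) (X j1) J ≤ PJ cs h (T j) (X j) J) h1
  have h4 := PJ_le_normalizer_VJ (H.rgd j) J h3
  exact Sup_le_SupL j _ ((mem_normalizer_iff.1 h4 v).1 (H.mono_Sup _ b h2))

theorem isPGroup_VJL [Finite W] (J : Set I) : IsPGroup p (VJ cs h (XL X) J) := by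
  rintro ⟨v, hv⟩
  obtain ⟨j, hj⟩ := H.mem_Sup.1 hv
  obtain ⟨m, hm⟩ := KFacts.RgdCharP.isPGroup_VJ (H.rgd j) J ⟨v, hj⟩
  have h1 : v ^ p ^ m = 1 := by
    have := congrArg Subtype.val hm
    simpa using this
  exact ⟨m, Subtype.ext (by simpa using h1)⟩

/-- the torus elements `S` have no common fixed points in `U` -/
theorem eq_one_of_centralizerL [Finite W] {S : Set Y} {j0 : J'} (hS : S ⊆ T j0)
    (hX : ∀ a, IsRoot cs h a → 0 ≤ a → ∀ u ∈ XL X a, u ∈ centralizer S → u = 1) {z : Y}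
    (hz : z ∈ RGD.Sup (XL X) (RGD.Pos cs h)) (hzS : z ∈ centralizer S) : z = 1 := by
  obtain ⟨j1, h1⟩ := H.mem_Sup.1 hz
  obtain ⟨j, a, b⟩ := H.dir j0 j1
  have h2 : z ∈ RGD.Sup (X j) (RGD.Pos cs h) ⊓ centralizer S := ⟨H.mono_Sup _ b h1, hzS⟩
  rw [Cfsg.Agent.Nodes.NormalForm.centralizer_U (H.rgd j) (hS.trans (H.monoT a))] at h2
  have h3 : RGD.Sup (fun x => X j x ⊓ centralizer S) (RGD.Pos cs h) ≤ ⊥ := by
    refine RGD.Sup_le fun x hx => ?_
    rintro u ⟨hu, huS⟩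
    rw [mem_bot]
    exact hX x hx.1 hx.2 u (le_XL j x hu) huS
  exact mem_bot.1 (h3 h2)

end Lim

section Lang

universe u v

variable {D : ChevalleyDatum} {l : ℕ} {M : CoxeterMatrix (Fin l)} (hp : IsType D l M) {k : Type u} [Field k]
  {W : Type v} [Group W] (cs : CoxeterSystem M W) {r : ℕ} [Fact r.Prime] [CharP k r] [IsAlgClosed k] (hk : LocFin k)

include hp cs hk in
theorem lang_VJ {e : ℕ} (he : 0 < e) {σ : MulAut ↥(D.group k)}
    (hσ : IsFrob r e σ) (F : Fr cs hp.isCartan (TT D k) (XX D l k) σ (AddEquiv.refl _)) {J : Set (Fin l)}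
    {m : ↥(D.group k)} (hm : m ∈ VJ cs hp.isCartan (XX D l k) J) :
    ∃ y ∈ VJ cs hp.isCartan (XX D l k) J, m = y⁻¹ * σ y :=
  lang_fr hp cs he hσ F (S := NotJ cs hp.isCartan J) (fun _ ha => ha.1) (fun _ ha => ha) hm

theorem PJ_eq (J : Set (Fin l)) : PJ cs hp.isCartan (TT D k) (XX D l k) J =
    TT D k ⊔ RGD.Sup (XX D l k) (RootsJ cs hp.isCartan J ∪ NotJ cs hp.isCartan J) := by
  apply le_antisymm
  · refine sup_le (sup_le le_sup_left ?_) ?_
    · exact (RGD.Sup_mono Set.subset_union_left).trans le_sup_right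
    · exact (RGD.Sup_mono Set.subset_union_right).trans le_sup_right
  · refine sup_le (le_sup_left.trans le_sup_left) (RGD.Sup_le fun a ha => ?_)
    rcases ha with ha | ha
    · exact (X_le_LJ ha).trans le_sup_left
    · exact (RGD.le_Sup ha).trans le_sup_right

include hp cs hk in
theorem lang_PJ (hZ : Subgroup.center ↥(D.group k) = ⊥) {e : ℕ} (he : 0 < e) {σ : MulAut ↥(D.group k)}
    (hσ : IsFrob r e σ) (F : Fr cs hp.isCartan (TT D k) (XX D l k) σ (AddEquiv.refl _)) {J : Set (Fin l)}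
    {m : ↥(D.group k)} (hm : m ∈ PJ cs hp.isCartan (TT D k) (XX D l k) J) :
    ∃ y ∈ PJ cs hp.isCartan (TT D k) (XX D l k) J, m = y⁻¹ * σ y := by
  rw [PJ_eq hp cs] at hm ⊢
  set S := RootsJ cs hp.isCartan J ∪ NotJ cs hp.isCartan J with hS
  have hSr : ∀ a ∈ S, IsRoot cs hp.isCartan a := by
    rintro a (ha | ha)
    · exact ha.1
    · exact ha.1
  have hTn : TT D k ≤ normalizer (RGD.Sup (XX D l k) S : Set ↥(D.group k)) := by
    have h1 := (tow hp cs hk r (k := k)).T_le_normalizer hSr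
    rwa [TL_eq hp hk, XL_eq hp hk] at h1
  obtain ⟨t, ht, x, hx, rfl⟩ := Cfsg.Agent.H18.Carter.mul_mem_of_norm' hTn hm
  have hx' : t * x * t⁻¹ ∈ RGD.Sup (XX D l k) S := (mem_normalizer_iff.1 (hTn ht) x).1 hx
  obtain ⟨u, hu, hut⟩ := H696.GmnToral.torus_lang hp cs hk hZ he hσ F ht
  have hx2 : u * (t * x * t⁻¹) * u⁻¹ ∈ RGD.Sup (XX D l k) S := (mem_normalizer_iff.1 (hTn hu) _).1 hx'
  obtain ⟨z, hz, hzx⟩ := lang_fr hp cs he hσ F (S := S) hSr (fun _ ha => ha) hx2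
  refine ⟨z * u, mul_mem (mem_sup_right hz) (mem_sup_left hu), ?_⟩
  rw [map_mul]
  calc t * x = u⁻¹ * (u * (t * x * t⁻¹) * u⁻¹) * (u * t) := by group
    _ = u⁻¹ * (z⁻¹ * σ z) * (u * t) := by rw [← hzx]
    _ = u⁻¹ * (z⁻¹ * σ z) * (u * (u⁻¹ * σ u)) := by rw [← hut]
    _ = (z * u)⁻¹ * (σ z * σ u) := by group

end Lang

end Cfsg.Agent.H381.Car
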