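import Cfsg.Agent.H381.Car.EvenOne
import Cfsg.Agent.LieRecognition.ReeInv
import Cfsg.Agent.LieRecognition.ReePSL
import Cfsg.Agent.LieRecognition.ReeCent
import Cfsg.Agent.LieRecognition.ReeSylowThree
import Cfsg.Agent.FixBN.ReeSplit
import Cfsg.Agent.S1116
import Cfsg.Agent.S1152
import Cfsg.Agent.S1156
import Cfsg.Agent.S1157

/-!
# Carter subgroups: the row `²G₂(q)` (S3852, helper381)
-/

set_option autoImplicit false
set_option linter.unusedSectionVars false

namespace Cfsg.Agent.H381.Car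

open Subgroup
open Cfsg.Agent.Solvable.Carter Cfsg.Agent.H18.Carter

universe u

section Data

open Cfsg.Agent.LieRecognition Cfsg.Agent.LieRecognition.ReeAbs Cfsg.Agent.LieRecognition.ReeSylowThree
  Cfsg.Agent.FixBN.ReeSplit

variable {K : Type*} [Field K] [Fintype K] {m : ℕ} {G : Type*} [Group G] {U : K → K → K → G} {h : Kˣ → G} {n : G}

theorem sylInv_ree (hK : Fintype.card K = 3 ^ (2 * m + 1)) (D : Data m U h n) : SylInv 3 G := by
  have : Finite G := finite D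
  have : Fact (Nat.Prime 3) := ⟨Nat.prime_three⟩
  have hpg : IsPGroup 3 (uSub D) := by
    apply IsPGroup.of_card (n := (2 * m + 1) * 3)
    rw [card_uSub, hK, pow_mul]
  have hcard := card_eq D
  have hidx : (uSub D).index = (Fintype.card K - 1) * ((Fintype.card K) ^ 3 + 1) := by
    have h1 := (uSub D).card_mul_index
    rw [card_uSub, hcard, mul_assoc] at h1
    exact Nat.eq_of_mul_eq_mul_left (pow_pos (Fintype.card_pos) 3) h1
  have hq : 3 ∣ Fintype.card K := by rw [hK]; exact dvd_pow_self 3 (by omega)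
  have hn3 : ¬ 3 ∣ (uSub D).index := by
    rw [hidx, Nat.prime_three.dvd_mul]
    have h0 := Fintype.card_pos (α := K)
    obtain ⟨c, hc⟩ := hq
    rintro (h1 | h1)
    · obtain ⟨d, hd⟩ := h1
      omega
    · have h2 : 3 ∣ Fintype.card K ^ 3 := dvd_pow ⟨c, hc⟩ (by decide)
      rw [Nat.dvd_add_right h2] at h1
      omega
  have hz1 : h (-1) ≠ 1 := D.inv_ne_one hK
  have hz2 : orderOf (h (-1)) = 2 := orderOf_eq_prime (by rw [sq, D.inv_sq]) hz1
  have hU2 : ∀ u ∈ uSub D, orderOf u ≠ 2 := by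
    intro u hu h2
    obtain ⟨k, hk⟩ := (IsPGroup.iff_orderOf.1 hpg) ⟨u, hu⟩
    rw [orderOf_mk, h2] at hk
    have h3 : (2 : ℕ) ∣ 3 ^ k := ⟨1, by rw [← hk]⟩
    have h4 := (Nat.prime_dvd_prime_iff_eq Nat.prime_two Nat.prime_three).1 (Nat.prime_two.dvd_of_dvd_pow h3)
    omega
  refine ⟨uSub D, hpg, hn3, h (-1), hz2, fun α hα => ?_⟩
  -- `α z` normalises `U`
  set w := α (h (-1)) with hw
  have hw2 : orderOf w = 2 := by rw [hw, MulEquiv.orderOf_eq, hz2]
  have hwU : ∀ x ∈ uSub D, w * x * w⁻¹ ∈ uSub D := by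
    intro x hx
    obtain ⟨y, rfl⟩ := α.surjective x
    rw [hw, ← map_inv, ← map_mul, ← map_mul, hα]
    exact h_conj_mem D (-1) ((hα y).1 hx)
  -- `w = u h(a)`
  obtain ⟨t, u, v, a, hwa⟩ : ∃ t u v a, w = U t u v * h a := by
    rcases D.bruhat w with h1 | ⟨t, u, v, a, t', u', v', h1⟩
    · exact h1
    · exfalso
      have hne : U 1 0 0 ≠ 1 := by
        intro h2
        rw [← D.U_zero] at h2
        exact one_ne_zero (U_injective D h2).1
      -- `y = U' x U'⁻¹ ≠ 1` with `w y` ...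
      set u' := U t' u' v' with hu'
      have hu'm : u' ∈ uSub D := ⟨_, _, _, rfl⟩
      have hx : u'⁻¹ * U 1 0 0 * u' ∈ uSub D := mul_mem (mul_mem (inv_mem hu'm) ⟨_, _, _, rfl⟩) hu'm
      have h2 := hwU _ hx
      have h3 : U t u v * (h a * (n * U 1 0 0 * n⁻¹) * (h a)⁻¹) * (U t u v)⁻¹ ∈ uSub D := by
        have e : w * (u'⁻¹ * U 1 0 0 * u') * w⁻¹ =
            U t u v * (h a * (n * U 1 0 0 * n⁻¹) * (h a)⁻¹) * (U t u v)⁻¹ := by
          rw [h1]; group
        rwa [e] at h2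
      have h4 : h a * (n * U 1 0 0 * n⁻¹) * (h a)⁻¹ ∈ uSub D := by
        have h5 := mul_mem (mul_mem (inv_mem (⟨t, u, v, rfl⟩ : U t u v ∈ uSub D)) h3) (⟨t, u, v, rfl⟩ : U t u v ∈ uSub D)
        have e : (U t u v)⁻¹ * (U t u v * (h a * (n * U 1 0 0 * n⁻¹) * (h a)⁻¹) * (U t u v)⁻¹) * U t u v =
            h a * (n * U 1 0 0 * n⁻¹) * (h a)⁻¹ := by group
        rwa [e] at h5
      have h5 : n * U 1 0 0 * n⁻¹ ∈ uSub D := by
        have h6 := h_conj_mem D a⁻¹ h4
        rw [D.h_inv] at h6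
        have e : (h a)⁻¹ * (h a * (n * U 1 0 0 * n⁻¹) * (h a)⁻¹) * (h a)⁻¹⁻¹ = n * U 1 0 0 * n⁻¹ := by group
        rwa [e] at h6
      rw [D.n_inv] at h5
      exact hne (eq_one_of_conj D ⟨_, _, _, rfl⟩ (uSub_le_bSub D h5))
  have hu : U t u v ∈ uSub D := ⟨_, _, _, rfl⟩
  have ha : a * a = 1 := by
    have h1 : w * w = 1 := by rw [← sq, ← hw2, pow_orderOf_eq_one]
    have h2 : U t u v * (h a * U t u v * (h a)⁻¹) = h (a * a)⁻¹ := by
      rw [D.h_inv, D.h_mul, eq_inv_iff_mul_eq_one]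
      rw [hwa] at h1
      rw [← h1]; group
    exact inv_eq_one.1 (h_inj D ((u_inf_h D (mul_mem hu (h_conj_mem D a hu)) h2 ▸ h2).symm.trans D.h_one.symm))
  have ha1 : a ≠ 1 := by
    rintro rfl
    rw [D.h_one, mul_one] at hwa
    exact hU2 _ (hwa ▸ hu) hw2
  have ha2 : a = -1 := by
    have h1 : (a : K) * a = 1 := by
      have := congrArg Units.val ha
      rwa [Units.val_mul, Units.val_one] at this
    rcases mul_self_eq_one_iff.1 h1 with h2 | h2
    · exact absurd (Units.ext h2) ha1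
    · exact Units.ext (by rw [h2, Units.val_neg, Units.val_one])
  have h1 : (h (-1))⁻¹ * w = (h (-1))⁻¹ * U t u v * (h (-1))⁻¹⁻¹ := by
    rw [hwa, ha2, inv_inv, mul_assoc]
  rw [h1, ← D.h_inv]
  exact h_conj_mem D _ hu

end Data

section Row

open Cfsg Cfsg.Lie Cfsg.Agent.LieRecognition

variable {G : Type u} [Group G] [Finite G] {S : Subgroup G} [S.Normal]

/-- **`²G₂(q)`.** -/
theorem row_ree (hF : Fpf.{u}) (c : Ctx G S) {K : Type} [Field K] [Fintype K] {m : ℕ} (hm : 1 ≤ m)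
    (hK : Fintype.card K = 3 ^ (2 * m + 1)) (e : S ≃* ↥(twistedG2 K (3 ^ m))) : CC G := by
  have : Fact (Nat.Prime 3) := ⟨Nat.prime_three⟩
  have hcharK := ReeAbs.charP_three hK
  obtain ⟨U, h, n, D⟩ := Cfsg.Agent.ChevalleyStructure.Ree.Data.exists_data hK
  have hfin : Finite ↥(twistedG2 K (3 ^ m)) := ReeSylowThree.finite D
  obtain ⟨a, haH, ha1, ha2⟩ := Cfsg.Agent.S1157.exists_involution hK
  obtain ⟨⟨ε⟩, hS⟩ := Cfsg.Agent.S1152.result hK a haH ha1 ha2
  have hcd := ReeCent.centData ha1 ha2 ε ReePSL.klein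
  have hconj : ∀ v : ↥(twistedG2 K (3 ^ m)), orderOf v = 2 → IsConj a v := by
    intro v hv
    have hv2 : v * v = 1 := by rw [← pow_two, ← hv]; exact pow_orderOf_eq_one v
    have hv1 : v ≠ 1 := by
      rintro rfl
      rw [orderOf_one] at hv
      omega
    exact isConj_iff.2 (ReeInv.isConj_involution hcd ReePSL.klein (Cfsg.Agent.S1116.result hK hm) hS hv1 hv2)
  refine cc_of_one_class' c e (fun s t hs ht => (hconj s hs).symm.trans (hconj t ht)) fun C hC => ?_
  refine even_of_sylInv hF c e (r := 3) (by norm_num) (sylInv_ree hK D) hC fun l hl hld => ?_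
  by_contra hne
  push Not at hne
  have : Fact l.Prime := ⟨hl⟩
  have hl3 : 3 < l := by
    have := hl.two_le
    omega
  exact not_dvd_of_cyclic c e (fun Q => Cfsg.Agent.S1156.result hm hK hl3 Q) hC hld

end Row

end Cfsg.Agent.H381.Car
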