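import Cfsg.Agent.H381.Car.RadUntw
import Cfsg.Agent.H607.Car.E6Def

/-!
# Carter subgroups, `E₆(q)`: automorphisms of odd order (task T7, split) (S3852, helper381)
-/

set_option autoImplicit false
set_option linter.unusedSectionVars false

namespace Cfsg.Agent.H381.Car

open CoxeterSystem Subgroup Cfsg Cfsg.Lie Cfsg.Lie.ChevalleyDatum
open Cfsg.Agent.GpExc.Field (glMap emb coe_emb glMap_xG emb_injective coe_glMap)
open Cfsg.Agent.BpExc Cfsg.Agent.BpExc.FamUntw Cfsg.Agent.BpExc.FamInst Cfsg.Agent.BpExc.RowsUntw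
open Cfsg.Agent.BpExc.Tow
open Cfsg.Agent.H607.Car

/-- **T7 for `E₆(q)`.** -/
theorem autSt_e6 (r : ℕ) [Fact r.Prime] {F : Type} [Field F] [Fintype F] [CharP F r] (f : F →+* Kb r) :
    AutSt r (emb e6T.inList f) := by
  intro α hα
  obtain ⟨g, t, j, -, -, h⟩ := exists_form (r := r) (k := Kb r) (d := 3) e6T f CoxeterMatrix.E₆.toCoxeterSystem inv_E6
    three_ne_zero CpAut.RgdUntw.symTwo_E6 (S1054.result chevE6 (by simp)) hα (pow_orderOf_eq_one α)
  exact ⟨_, j, fun x => h x⟩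

end Cfsg.Agent.H381.Car
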