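import Cfsg.Agent.H381.Car.LemX
import Cfsg.Agent.Lib.NormalAbelian

/-!
# Consequences of Lemma X for almost simple groups (helper381, for S3852)
-/

set_option autoImplicit false
set_option linter.style.haveILetI false

namespace Cfsg.Agent.H381.Car

open Subgroup Pointwise Cfsg.Agent.Solvable.Carter Cfsg.Agent.H18.Carter

universe u

variable {G : Type u} [Group G] [Finite G] {S : Subgroup G} [S.Normal]

/-- (X0) -/
theorem inf_ne_bot (hF : Fpf.{u}) (c : Ctx G S) {K : Subgroup G} (hK : IsCarter K) : K ⊓ S ≠ ⊥ := by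
  intro hb
  refine c.S_not_solvable (solvable_of_centralizer hF hK.1 (le_normalizer_of_normal _ _) ?_)
  intro n hn hc
  have h1 : n ∈ normalizer (K : Set G) := by
    rw [mem_normalizer_iff]
    intro x
    constructor
    · intro hx
      rw [← hc x hx, mul_inv_cancel_right]
      exact hx
    · intro hx
      have h2 := hc _ hx
      have h3 : x = n * x * n⁻¹ := by
        have h4 : n * x * n⁻¹ * n = n * (n * x * n⁻¹) := h2
        have h5 : n * x = n * (n * x * n⁻¹) := by rw [← h4]; group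
        exact mul_left_cancel h5
      rw [h3]; exact hx
  rw [hK.2] at h1
  have : n ∈ K ⊓ S := ⟨h1, hn⟩
  rwa [hb, mem_bot] at this

/-- Two Carter subgroups meeting `S` in `ℓ`-groups (the same `ℓ`) are conjugate. -/
theorem conj_of_inf_pgroup (hF : Fpf.{u}) (c : Ctx G S) {K H : Subgroup G} (hK : IsCarter K) (hH : IsCarter H)
    {l : ℕ} [hl : Fact l.Prime] (h1 : IsPGroup l (K ⊓ S : Subgroup G)) (h2 : IsPGroup l (H ⊓ S : Subgroup G)) :
    ∃ g : G, MulAut.conj g • K = H := by
  obtain ⟨P, hPS, hPp, hPl, hPK⟩ := lemma_x hF c.min S hK h1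
  obtain ⟨R, hRS, hRp, hRl, hRH⟩ := lemma_x hF c.min S hH h2
  have hp1 : IsPGroup l (P.subgroupOf S) := hPp.comap_of_injective S.subtype S.subtype_injective
  have hp2 : IsPGroup l (R.subgroupOf S) := hRp.comap_of_injective S.subtype S.subtype_injective
  obtain ⟨s, hs⟩ := MulAction.exists_smul_eq S (hp1.toSylow hPl) (hp2.toSylow hRl)
  have hs' : MulAut.conj s • P.subgroupOf S = R.subgroupOf S := by
    have := congrArg (fun Q : Sylow l S => (Q : Subgroup S)) hs
    exact this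
  have hPR : MulAut.conj (s : G) • P = R := by
    rw [conj_smul_subgroupOf hPS, subgroupOf_inj] at hs'
    rwa [inf_eq_left.mpr hRS, inf_eq_left.mpr (conj_smul_le_of_le hPS s)] at hs'
  have hPb : P ≠ ⊥ := by
    rintro rfl
    rw [relIndex_bot_left] at hPl
    refine inf_ne_bot hF c hK ?_
    have h3 : IsPGroup l (K ⊓ S : Subgroup G) := h1
    obtain ⟨n, hn⟩ := IsPGroup.iff_card.mp h3
    rcases Nat.eq_zero_or_pos n with h0 | h0
    · rw [h0, pow_zero] at hn
      exact card_eq_one.mp hn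
    · exfalso
      refine hPl ((dvd_pow_self l h0.ne').trans ?_)
      rw [← hn]
      exact card_dvd_of_le inf_le_right
  have hPsol : Group.IsNilpotent P := hPp.isNilpotent
  refine c.conj_of_le (M := normalizer (R : Set G)) ?_ (K := MulAut.conj (s : G) • K) (hK.conj _) hH ?_ hRH |>.imp' (fun g => g * s) ?_
  · have hRb : R ≠ ⊥ := by
      rintro rfl
      rw [smul_eq_iff_eq_inv_smul, smul_bot] at hPR
      exact hPb hPR
    have : Group.IsNilpotent R := hRp.isNilpotent
    exact c.norm_ne_top hRb inferInstance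
  · intro x hx
    rw [mem_cj] at hx
    have h3 := hPK hx
    rw [← hPR, mem_normalizer_conj_smul]
    exact h3
  · rintro g ⟨_, hg⟩
    rw [map_mul, mul_smul]
    exact hg

/-- all Carter subgroups meet `S` in `ℓ`-groups -/
theorem cc_of_l (hF : Fpf.{u}) (c : Ctx G S) (l : ℕ) [Fact l.Prime]
    (h : ∀ K : Subgroup G, IsCarter K → IsPGroup l (K ⊓ S : Subgroup G)) : CC G :=
  fun K H hK hH => conj_of_inf_pgroup hF c hK hH (h K hK) (h H hH)

/-- A prime `r` dividing `|K ∩ S|` divides the order of an element of `Z(K) ∩ S`. -/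
theorem exists_central {K : Subgroup G} (hK : Group.IsNilpotent K) {r : ℕ} [hr : Fact r.Prime]
    (hd : r ∣ Nat.card (K ⊓ S : Subgroup G)) :
    ∃ z ∈ S, z ∈ K ∧ orderOf z = r ∧ K ≤ centralizer ({z} : Set G) := by
  haveI := hK
  set D : Subgroup K := S.subgroupOf K with hD
  have hDn : D.Normal := inferInstance
  have hcard : Nat.card D = Nat.card (K ⊓ S : Subgroup G) := by
    rw [inf_comm]
    exact Nat.card_congr ((subgroupOfEquivOfLe (inf_le_right : S ⊓ K ≤ K)).toEquiv.symm.trans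
      (MulEquiv.subgroupCongr (inf_subgroupOf_right S K)).toEquiv).symm
  -- the Sylow `r`-subgroup of `K` is normal
  obtain ⟨R⟩ : Nonempty (Sylow r K) := inferInstance
  have hRn : (R : Subgroup K).Normal := by
    have h := ((Group.isNilpotent_of_finite_tfae (G := K)).out 0 3).mp hK
    exact h r hr R
  have hne : D ⊓ (R : Subgroup K) ≠ ⊥ := by
    intro hb
    rw [← hcard] at hd
    obtain ⟨x, hx⟩ := exists_prime_orderOf_dvd_card' r hd
    have h1 : IsPGroup r (zpowers (x : K)) := by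
      refine IsPGroup.of_card (n := 1) ?_
      rw [Nat.card_zpowers, orderOf_coe, hx, pow_one]
    obtain ⟨R', hR'⟩ := h1.exists_le_sylow
    obtain ⟨g, hg⟩ := MulAction.exists_smul_eq K R R'
    have h2 : (x : K) ∈ (R' : Subgroup K) := hR' (mem_zpowers _)
    rw [← hg, Sylow.coe_subgroup_smul, mem_conj_smul_iff] at h2
    have h2' : (x : K) ∈ (R : Subgroup K) := by
      have := hRn.conj_mem _ h2 g
      simpa [mul_assoc] using this
    have h3 : (x : K) ∈ D ⊓ (R : Subgroup K) := ⟨x.2, h2'⟩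
    rw [hb, mem_bot] at h3
    have h4 : x = 1 := Subtype.ext h3
    rw [h4, orderOf_one] at hx
    exact hr.out.one_lt.ne hx
  have h5 := Cfsg.Agent.Lib.NormalAbelian.normal_inf_center_ne_bot (D ⊓ (R : Subgroup K)) hne
  have h6 : r ∣ Nat.card ((D ⊓ (R : Subgroup K)) ⊓ center K : Subgroup K) := by
    have h7 : IsPGroup r ((D ⊓ (R : Subgroup K)) ⊓ center K : Subgroup K) :=
      R.2.to_le (inf_le_left.trans inf_le_right)
    obtain ⟨n, hn⟩ := IsPGroup.iff_card.mp h7
    rcases Nat.eq_zero_or_pos n with h0 | h0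
    · rw [h0, pow_zero] at hn
      exact absurd (card_eq_one.mp hn) h5
    · rw [hn]; exact dvd_pow_self r h0.ne'
  obtain ⟨z, hz⟩ := exists_prime_orderOf_dvd_card' r h6
  obtain ⟨⟨⟨z, hzK⟩, ⟨⟨hzD, _⟩, hzc⟩⟩, hz⟩ : ∃ w : ((D ⊓ (R : Subgroup K)) ⊓ center K : Subgroup K), orderOf w = r := ⟨z, hz⟩
  refine ⟨z, mem_subgroupOf.mp hzD, hzK, ?_, ?_⟩
  · rw [← hz, ← orderOf_coe, ← orderOf_coe]
  · intro k hk
    rw [mem_centralizer_singleton_iff]
    have := mem_center_iff.mp hzc ⟨k, hk⟩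
    exact congrArg Subtype.val this

/-- Elements of order `r` in `S` are conjugate to proper powers: then `r ∤ |K ∩ S|`. -/
theorem not_dvd_of_power (c : Ctx G S) {r : ℕ} [hr : Fact r.Prime]
    (h : ∀ z ∈ S, orderOf z = r → ∃ g : G, g * z * g⁻¹ ≠ z ∧ g * z * g⁻¹ ∈ zpowers z)
    {K : Subgroup G} (hK : IsCarter K) : ¬ r ∣ Nat.card (K ⊓ S : Subgroup G) := by
  intro hd
  obtain ⟨z, hzS, hzK, hz, hc⟩ := exists_central (S := S) hK.1 hd
  obtain ⟨g, hg, hg'⟩ := h z hzS hz
  refine hg (c.eq_of_conj hK hc ?_)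
  obtain ⟨i, hi⟩ := hg'
  have hi' : z ^ i = g * z * g⁻¹ := hi
  intro k hk
  rw [← hi', mem_centralizer_singleton_iff]
  have h1 : k * z = z * k := mem_centralizer_singleton_iff.mp (hc hk)
  exact (Commute.zpow_right h1 i : Commute k (z ^ i))

/-- **Real rows.** -/
theorem cc_of_real (hF : Fpf.{u}) (c : Ctx G S)
    (h : ∀ z ∈ S, (orderOf z).Prime → orderOf z ≠ 2 → ∃ g : G, g * z * g⁻¹ ≠ z ∧ g * z * g⁻¹ ∈ zpowers z) :
    CC G := by
  haveI : Fact (Nat.Prime 2) := ⟨Nat.prime_two⟩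
  refine cc_of_l hF c 2 fun K hK => ?_
  rw [IsPGroup.iff_card]
  refine ⟨_, Nat.eq_prime_pow_of_unique_prime_dvd Nat.card_pos.ne' ?_⟩
  intro r hr hd
  by_contra hne
  haveI : Fact r.Prime := ⟨hr⟩
  refine not_dvd_of_power c (r := r) ?_ hK hd
  intro z hz ho
  exact h z hz (ho ▸ hr) (ho ▸ hne)

end Cfsg.Agent.H381.Car
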