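import Cfsg.Agent.H381.Car.Rad
import Cfsg.Agent.H381.Car.EvenOne
import Cfsg.Agent.H607.Car.E6Def

/-!
# Carter subgroups: evenness from rigid elements (steps (A), (C) of the rows `E₆^ε(q)`) (S3852, helper381)

* `two_dvd_of_cent` : an involution of `S` commuting with the odd part of the Carter subgroup `K`: `|K ∩ S|` is even;
* `even_of_invZ` : (A);
* `cc_of_invCl` : (C).
-/

set_option autoImplicit false
set_option linter.unusedSectionVars false

namespace Cfsg.Agent.H381.Car

open Subgroup Pointwise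
open Cfsg.Agent.Solvable.Carter Cfsg.Agent.H18.Carter Cfsg.Agent.H607.Car

universe u

theorem eq_of_inf_norm {Y : Type*} [Group Y] [Finite Y] {p : ℕ} [Fact p.Prime] {Q V : Subgroup Y} (hQV : Q ≤ V)
    (hV : IsPGroup p V) (h1 : V ⊓ normalizer (Q : Set Y) ≤ Q) : V = Q := by
  by_contra hne
  have hnil : Group.IsNilpotent V := hV.isNilpotent
  have h2 : Q.subgroupOf V < ⊤ := by
    rw [lt_top_iff_ne_top]
    intro h3
    exact hne (le_antisymm (subgroupOf_eq_top.1 h3) hQV)
  have h3 := Group.normalizerCondition_of_isNilpotent (G := V) _ h2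
  rw [← subgroupOf_normalizer_eq hQV] at h3
  obtain ⟨⟨x, hxV⟩, hx1, hx2⟩ := SetLike.exists_of_lt h3
  rw [mem_subgroupOf] at hx1 hx2
  exact hx2 (h1 ⟨hxV, hx1⟩)

variable {G : Type u} [Group G] [Finite G] {S : Subgroup G} [S.Normal]

/-- An involution of `S` commuting with the odd part of `K`. -/
theorem two_dvd_of_cent {K P O : Subgroup G} (hK : IsCarter K) (hPK : P ≤ K) (_hOK : O ≤ K) (hPO : P ⊔ O = K)
    (hP : IsPGroup 2 P) (hc : ∀ x ∈ P, ∀ y ∈ O, x * y = y * x) (hrel : Odd (P.relIndex K)) {a : G} (ha : a ∈ S)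
    (ha2 : orderOf a = 2) (haO : ∀ y ∈ O, a * y = y * a) : 2 ∣ Nat.card ↥(K ⊓ S) := by
  have h2 : Fact (Nat.Prime 2) := ⟨Nat.prime_two⟩
  set C : Subgroup G := centralizer (O : Set G) with hC
  have hmC : ∀ x, x ∈ C ↔ ∀ y ∈ O, x * y = y * x := by
    intro x
    rw [hC, mem_centralizer_iff]
    exact ⟨fun h y hy => (h y hy).symm, fun h y hy => (h y hy).symm⟩
  have hPC : P ≤ C := fun x hx => (hmC x).2 fun y hy => hc x hx y hy
  have haC : a ∈ C := (hmC a).2 haO
  -- `P` is a Sylow `2`-subgroup of `C`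
  have key : ∀ Q : Subgroup G, IsPGroup 2 Q → P ≤ Q → Q ≤ C → Q = P := by
    intro Q hQ hPQ hQC
    refine eq_of_inf_norm hPQ hQ ?_
    rintro x ⟨hxQ, hxN⟩
    -- `x` normalises `K`
    have hxK : x ∈ K := by
      rw [← hK.2, ← cj_eq_self_iff, ← hPO, smul_sup, cj_eq_self_iff.2 hxN]
      congr 1
      rw [cj_eq_self_iff]
      refine mem_normalizer_iff.2 fun y => ?_
      have hx := (hmC x).1 (hQC hxQ)
      have hx' := (hmC x⁻¹).1 (inv_mem (hQC hxQ))
      constructor
      · intro hy
        rw [hx y hy, mul_inv_cancel_right]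
        exact hy
      · intro hy
        have h3 := hx' _ hy
        have e : y = x⁻¹ * (x * y * x⁻¹) * x := by group
        rw [e, h3, inv_mul_cancel_right]
        exact hy
    -- `x` is a `2`-element of `K`
    have hPn : (P.subgroupOf K).Normal := by
      refine ⟨fun y hy g => ?_⟩
      rw [mem_subgroupOf] at hy ⊢
      have hg : (g : G) ∈ normalizer (P : Set G) := by
        have h3 : K ≤ normalizer (P : Set G) := by
          rw [← hPO]
          refine sup_le le_normalizer ?_
          intro o ho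
          refine mem_normalizer_iff.2 fun y => ?_
          constructor
          · intro hy
            rw [← hc y hy o ho, mul_inv_cancel_right]
            exact hy
          · intro hy
            have h4 := hc _ hy o ho
            have e : y = o⁻¹ * (o * y * o⁻¹ * o) := by group
            rw [e, h4, inv_mul_cancel_left]
            exact hy
        exact h3 g.2
      exact (mem_normalizer_iff.1 hg _).1 hy
    by_contra hxP
    obtain ⟨k, hk⟩ := (IsPGroup.iff_orderOf.1 hQ) ⟨x, hxQ⟩
    rw [orderOf_mk] at hk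
    -- order in the quotient
    have h3 : orderOf (QuotientGroup.mk (⟨x, hxK⟩ : K) : K ⧸ P.subgroupOf K) ∣ Nat.gcd (2 ^ k) (P.relIndex K) := by
      apply Nat.dvd_gcd
      · refine (orderOf_map_dvd (QuotientGroup.mk' (P.subgroupOf K)) _).trans ?_
        rw [orderOf_mk, hk]
      · rw [relIndex, index_eq_card]
        exact orderOf_dvd_natCard _
    rw [Nat.Coprime.gcd_eq_one (Nat.Coprime.pow_left k (Nat.coprime_two_left.2 hrel)), Nat.dvd_one, orderOf_eq_one_iff,
      QuotientGroup.eq_one_iff, mem_subgroupOf] at h3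
    exact hxP h3
  -- the conjugate of `a`
  have hp1 : IsPGroup 2 (P.subgroupOf C) := hP.comap_of_injective C.subtype C.subtype_injective
  obtain ⟨Q, hQ⟩ := hp1.exists_le_sylow
  have hQP : (Q : Subgroup C).map C.subtype = P := by
    refine key _ (Q.2.map _) ?_ (map_subtype_le _)
    intro x hx
    exact ⟨⟨x, hPC hx⟩, hQ (mem_subgroupOf.2 hx), rfl⟩
  have ha1 : IsPGroup 2 (zpowers (⟨a, haC⟩ : C)) := by
    refine IsPGroup.of_card (n := 1) ?_
    rw [Nat.card_zpowers, orderOf_mk, ha2, pow_one]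
  obtain ⟨Q', hQ'⟩ := ha1.exists_le_sylow
  obtain ⟨g, hg⟩ := MulAction.exists_smul_eq C Q' Q
  have h3 : g * (⟨a, haC⟩ : C) * g⁻¹ ∈ (Q : Subgroup C) := by
    rw [← hg, Sylow.coe_subgroup_smul, mem_smul_pointwise_iff_exists]
    exact ⟨_, hQ' (mem_zpowers _), rfl⟩
  have h4 : (g : G) * a * (g : G)⁻¹ ∈ K ⊓ S := by
    refine ⟨hPK ?_, Normal.conj_mem inferInstance a ha _⟩
    rw [← hQP]
    exact ⟨_, h3, rfl⟩
  have h5 : orderOf ((g : G) * a * (g : G)⁻¹) = 2 := by
    have : (g : G) * a * (g : G)⁻¹ = MulAut.conj (g : G) a := rfl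
    rw [this]
    exact (orderOf_injective (MulAut.conj (g : G)).toMonoidHom (MulAut.conj (g : G)).injective a).trans ha2
  rw [← h5, ← orderOf_mk _ h4]
  exact orderOf_dvd_natCard _

/-- **(A)** -/
theorem even_of_invZ (hF : Fpf.{u}) (c : Ctx G S) {X : Type*} [Group X] (e : S ≃* X) {r : ℕ} [hr : Fact r.Prime]
    (hr2 : r ≠ 2) (hI : InvZ r X) (hY : SylInv r X) {K : Subgroup G} (hK : IsCarter K) : 2 ∣ Nat.card ↥(K ⊓ S) := by
  by_cases hcase : ∃ l : ℕ, l.Prime ∧ l ∣ Nat.card ↥(K ⊓ S) ∧ l ≠ 2 ∧ l ≠ r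
  · obtain ⟨l, hl, hld, hl2, hlr⟩ := hcase
    have : Fact l.Prime := ⟨hl⟩
    obtain ⟨z, hzS, hzK, hz, hzc⟩ := exists_central (S := S) hK.1 hld
    -- `z` is rigid
    have hrig : Rigid (e ⟨z, hzS⟩) := by
      rintro g ⟨i, hi⟩
      have hi' : (e ⟨z, hzS⟩) ^ i = g * e ⟨z, hzS⟩ * g⁻¹ := hi
      have h1 : z ^ i = ((e.symm g : S) : G) * z * ((e.symm g : S) : G)⁻¹ := by
        have h3 := congrArg (fun y => ((e.symm y : S) : G)) hi'
        simpa using h3
      have h2 := c.eq_of_conj hK hzc (g := ((e.symm g : S) : G)) (by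
        rw [← h1]
        intro k hk
        rw [mem_centralizer_singleton_iff]
        have h4 : k * z = z * k := mem_centralizer_singleton_iff.mp (hzc hk)
        exact (Commute.zpow_right h4 i : Commute k (z ^ i)))
      apply e.symm.injective
      apply Subtype.ext
      simpa using h2
    have hzo : orderOf (e ⟨z, hzS⟩) = l := by rw [MulEquiv.orderOf_eq, orderOf_mk, hz]
    obtain ⟨a, ha2, ha⟩ := hI (e ⟨z, hzS⟩) (hzo ▸ hl) (hzo ▸ hl2) (hzo ▸ hlr) hrig
    obtain ⟨P, O, hPK, hOK, hPO, hP, hO, hc, hrel⟩ := exists_two_odd hK.1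
    refine two_dvd_of_cent hK hPK hOK hPO hP hc hrel (a := ((e.symm a : S) : G)) (e.symm a).2 ?_ ?_
    · rw [Subgroup.orderOf_coe, MulEquiv.orderOf_eq, ha2]
    · intro y hy
      -- the automorphism
      let α : MulAut X := (e.symm.trans (MulAut.conjNormal (H := S) y)).trans e
      have hα : ∀ x, α x = e (MulAut.conjNormal (H := S) y (e.symm x)) := fun x => rfl
      have hpow : ∀ k : ℕ, ∀ x, (α ^ k) x = e (MulAut.conjNormal (H := S) (y ^ k) (e.symm x)) := by
        intro k
        induction k with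
        | zero => intro x; rw [pow_zero, pow_zero, map_one]; simp
        | succ k ih =>
          intro x
          rw [pow_succ, MulAut.mul_apply, ih, hα, e.symm_apply_apply, pow_succ, map_mul, MulAut.mul_apply]
      have hyo : Odd (orderOf y) := by
        refine hO.of_dvd_nat ?_
        rw [← orderOf_mk y hy]
        exact orderOf_dvd_natCard _
      have hαo : Odd (orderOf α) := by
        refine hyo.of_dvd_nat (orderOf_dvd_of_pow_eq_one ?_)
        ext x
        rw [hpow, pow_orderOf_eq_one, map_one]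
        simp
      have h1 : α (e ⟨z, hzS⟩) = e ⟨z, hzS⟩ := by
        rw [hα, e.symm_apply_apply]
        congr 1
        apply Subtype.ext
        rw [MulAut.conjNormal_apply]
        have h4 : y * z = z * y := mem_centralizer_singleton_iff.mp (hzc (hOK hy))
        show y * z * y⁻¹ = z
        rw [h4, mul_inv_cancel_right]
      have h2 := ha α hαo h1
      rw [hα] at h2
      have h3 : MulAut.conjNormal (H := S) y (e.symm a) = e.symm a := by
        apply e.injective
        rw [h2, e.apply_symm_apply]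
      have h4 := congrArg Subtype.val h3
      rw [MulAut.conjNormal_apply] at h4
      exact (mul_inv_eq_iff_eq_mul.1 h4).symm
  · push Not at hcase
    refine even_of_sylInv hF c e hr2 hY hK fun l hl hld => ?_
    by_contra hne
    push Not at hne
    exact hne.2 (hcase l hl hld hne.1)

/-- **(C)** : no involution of `Z(K) ∩ S` is conjugate to `t₀`, the other ones form one class. -/
theorem cc_of_invCl (c : Ctx G S) {X : Type*} [Group X] (e : S ≃* X) {t0 : X} (hI : InvCl X t0)
    (heven : ∀ K : Subgroup G, IsCarter K → 2 ∣ Nat.card ↥(K ⊓ S))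
    (hno : ∀ K : Subgroup G, IsCarter K → ∀ t (ht : t ∈ S), t ∈ K → K ≤ centralizer ({t} : Set G) → orderOf t = 2 →
      ¬ IsConj (e ⟨t, ht⟩) t0) : CC G := by
  intro K H hK hH
  have : Fact (Nat.Prime 2) := ⟨Nat.prime_two⟩
  obtain ⟨z, hzS, hzK, hz2, hzc⟩ := exists_central (S := S) hK.1 (heven K hK)
  obtain ⟨w, hwS, hwH, hw2, hwc⟩ := exists_central (S := S) hH.1 (heven H hH)
  obtain ⟨g, hg⟩ := isConj_iff.1 (hI.2 (e ⟨z, hzS⟩) (e ⟨w, hwS⟩) (by rw [MulEquiv.orderOf_eq, orderOf_mk, hz2])
    (by rw [MulEquiv.orderOf_eq, orderOf_mk, hw2]) (hno K hK z hzS hzK hzc hz2) (hno H hH w hwS hwH hwc hw2))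
  have h3 : ((e.symm g : S) : G) * z * ((e.symm g : S) : G)⁻¹ = w := by
    have h4 := congrArg (fun y => ((e.symm y : S) : G)) hg
    simpa using h4
  refine c.conj_of_cent hK hH (z := z) ?_ hzc (g := ((e.symm g : S) : G)) ?_
  · rintro rfl
    rw [orderOf_one] at hz2
    exact absurd hz2 (by norm_num)
  · rw [h3]; exact hwc

end Cfsg.Agent.H381.Car
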