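import Cfsg.Agent.H381.Car.Conj
import Cfsg.Agent.S4124

/-!
# `Fpf` holds (S4124)
-/

set_option autoImplicit false

namespace Cfsg.Agent.H381.Car

universe u

theorem fpf : Fpf.{u} := fun _ _ _ _ _ _ _ _ hA hCF => Cfsg.Agent.S4124.result hA hCF

end Cfsg.Agent.H381.Car
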