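import Cfsg.Agent.H381.Car.SolvSyl
import Cfsg.Agent.H18.Carter.Ctx

/-!
# Lemma X (helper381, for S3852)

`G` finite, all groups of smaller order satisfy the conjugacy of Carter subgroups, `N` normal in `G`, `K` a Carter
subgroup of `G` such that `K ∩ N` is an `ℓ`-group.  Then `K` normalises a Sylow `ℓ`-subgroup of `N`.
The only non-elementary input is `Fpf` (= S4124): a finite group with a nilpotent group of automorphisms without
common fixed points is solvable.
-/

set_option autoImplicit false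
set_option linter.style.haveILetI false

namespace Cfsg.Agent.H381.Car

open Subgroup Pointwise Cfsg.Agent.Solvable.Carter Cfsg.Agent.H18.Carter

universe u

/-- S4124. -/
def Fpf : Prop :=
  ∀ (G A : Type u) [Group G] [Finite G] [Group A] [Finite A] [MulDistribMulAction A G] [FaithfulSMul A G],
    Group.IsNilpotent A → (∀ g : G, (∀ a : A, a • g = g) → g = 1) → Group.IsSolvable G

/-- The internal form of `Fpf`. -/
theorem solvable_of_centralizer (hF : Fpf.{u}) {Y : Type u} [Group Y] [Finite Y] {K N : Subgroup Y}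
    (hK : Group.IsNilpotent K) (hKN : K ≤ normalizer (N : Set Y))
    (hC : ∀ n ∈ N, (∀ k ∈ K, k * n = n * k) → n = 1) : Group.IsSolvable N := by
  classical
  -- the action of `K` on `N` by conjugation
  let f : K →* MulAut N :=
    { toFun := fun k =>
        { toFun := fun n => ⟨k * n * (k : Y)⁻¹, (mem_normalizer_iff.mp (hKN k.2) n).mp n.2⟩
          invFun := fun n => ⟨(k : Y)⁻¹ * n * k, by
            have h := (mem_normalizer_iff.mp (hKN (K.inv_mem k.2)) n).mp n.2
            simpa using h⟩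
          left_inv := fun n => by ext; simp [mul_assoc]
          right_inv := fun n => by ext; simp [mul_assoc]
          map_mul' := fun a b => by ext; simp [mul_assoc] }
      map_one' := by ext; simp
      map_mul' := fun a b => by ext; simp [mul_assoc] }
  have hf : ∀ (k : K) (n : N), ((f k n : N) : Y) = k * n * (k : Y)⁻¹ := fun k n => rfl
  haveI : Group.IsNilpotent K := hK
  have hA : Group.IsNilpotent f.range :=
    Group.nilpotent_of_surjective f.rangeRestrict f.rangeRestrict_surjective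
  refine hF N f.range hA ?_
  intro n hn
  ext
  refine hC n n.2 fun k hk => ?_
  have h := hn ⟨f ⟨k, hk⟩, ⟨⟨k, hk⟩, rfl⟩⟩
  have h2 : f ⟨k, hk⟩ n = n := h
  have h3 := congrArg (fun z : N => (z : Y)) h2
  simp only [hf] at h3
  calc k * (n : Y) = (k * n * k⁻¹) * k := by group
    _ = n * k := by rw [h3]

theorem le_normalizer_sup {Y : Type u} [Group Y] {K A B : Subgroup Y} (hA : K ≤ normalizer (A : Set Y))
    (hB : K ≤ normalizer (B : Set Y)) : K ≤ normalizer ((A ⊔ B : Subgroup Y) : Set Y) := by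
  intro k hk
  have h2 := hA hk
  have h3 := hB hk
  rw [mem_normalizer_iff_map_conj_eq] at h2 h3 ⊢
  rw [Subgroup.map_sup, h2, h3]

theorem le_normalizer_inf {Y : Type u} [Group Y] {K A B : Subgroup Y} (hA : K ≤ normalizer (A : Set Y))
    (hB : K ≤ normalizer (B : Set Y)) : K ≤ normalizer ((A ⊓ B : Subgroup Y) : Set Y) := by
  intro k hk
  have h2 := hA hk
  have h3 := hB hk
  rw [mem_normalizer_iff] at h2 h3 ⊢
  intro x
  rw [mem_inf, mem_inf, h2, h3]

theorem le_normalizer_of_normal {Y : Type u} [Group Y] (K A : Subgroup Y) [A.Normal] :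
    K ≤ normalizer (A : Set Y) := by
  rw [normalizer_eq_top]; exact le_top

/-- **Lemma X.** -/
theorem lemma_x (hF : Fpf.{u}) {G : Type u} [Group G] [Finite G]
    (IH : ∀ (B : Type u) [Group B] [Finite B], Nat.card B < Nat.card G → CC B) (N : Subgroup G) [N.Normal]
    {K : Subgroup G} (hK : IsCarter K) {l : ℕ} [hl : Fact l.Prime] (hKN : IsPGroup l (K ⊓ N : Subgroup G)) :
    ∃ P : Subgroup G, P ≤ N ∧ IsPGroup l P ∧ ¬ l ∣ P.relIndex N ∧ K ≤ normalizer (P : Set G) := by
  classical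
  let S : Set (Subgroup G) := {Q | Q ≤ N ∧ IsPGroup l Q ∧ K ≤ normalizer (Q : Set G)}
  have hbot : (⊥ : Subgroup G) ∈ S := ⟨bot_le, IsPGroup.of_bot, le_normalizer_of_normal _ _⟩
  obtain ⟨Q, ⟨hQN, hQp, hKQ⟩, hmax⟩ := (Set.toFinite S).exists_maximal ⟨_, hbot⟩
  refine ⟨Q, hQN, hQp, ?_, hKQ⟩
  -- `K ∩ N ≤ Q`
  have hKNQ : K ⊓ N ≤ Q := by
    have h1 : (K ⊓ N) ⊔ Q ∈ S := by
      refine ⟨sup_le inf_le_right hQN, ?_, ?_⟩
      · exact hKN.to_sup_of_normal_right' hQp (inf_le_left.trans hKQ)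
      · exact le_normalizer_sup (le_normalizer_inf le_normalizer (le_normalizer_of_normal _ _)) hKQ
    exact le_sup_left.trans (hmax h1 le_sup_right)
  set M : Subgroup G := N ⊓ normalizer (Q : Set G) with hM
  set Y : Subgroup G := K ⊔ M with hY
  have hKY : K ≤ Y := le_sup_left
  have hMY : M ≤ Y := le_sup_right
  have hQM : Q ≤ M := le_inf hQN le_normalizer
  have hQY : Q ≤ Y := hQM.trans hMY
  have hYQ : Y ≤ normalizer (Q : Set G) := sup_le hKQ inf_le_right
  haveI hQn : (Q.subgroupOf Y).Normal := by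
    have := normal_subgroupOf_of_le_normalizer hYQ
    exact this
  let f := QuotientGroup.mk' (Q.subgroupOf Y)
  have hfs : Function.Surjective f := QuotientGroup.mk'_surjective _
  have hKC : IsCarter ((K.subgroupOf Y).map f) := by
    refine IsCarter.map hfs ?_ (hK.subgroupOf hKY)
    intro H hH
    refine IH H ?_
    calc Nat.card H < Nat.card Y := by
          refine lt_of_le_of_ne (Nat.le_of_dvd Nat.card_pos (card_subgroup_dvd_card H)) fun h => hH ?_
          exact eq_top_of_card_eq H h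
      _ ≤ Nat.card G := Nat.le_of_dvd Nat.card_pos (card_subgroup_dvd_card Y)
  set Kb := (K.subgroupOf Y).map f with hKb
  have hMnn : normalizer (Q : Set G) ≤ normalizer (M : Set G) :=
    le_normalizer_inf (le_normalizer_of_normal _ _) le_normalizer
  haveI hMn : (M.subgroupOf Y).Normal := normal_subgroupOf_of_le_normalizer (hYQ.trans hMnn)
  set Nb := (M.subgroupOf Y).map f with hNb
  haveI hNbn : Nb.Normal := hMn.map f hfs
  have hinf : Kb ⊓ Nb = ⊥ := by
    rw [eq_bot_iff]
    rintro z ⟨⟨k, hk, hkz⟩, ⟨n, hn, hnz⟩⟩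
    rw [SetLike.mem_coe, mem_subgroupOf] at hk hn
    have h1 : k⁻¹ * n ∈ Q.subgroupOf Y := by
      rw [← QuotientGroup.eq]
      exact hkz.trans hnz.symm
    rw [mem_subgroupOf] at h1
    have h2 : (k : G) ∈ N := by
      have h3 := N.mul_mem (inf_le_left (a := N) hn : (n : G) ∈ N) (N.inv_mem (hQN h1))
      simpa using h3
    have h3 : (k : G) ∈ Q := hKNQ ⟨hk, h2⟩
    rw [mem_bot, ← hkz]
    exact (QuotientGroup.eq_one_iff k).mpr (mem_subgroupOf.mpr h3)
  have hsup : Kb ⊔ Nb = ⊤ := by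
    rw [hKb, hNb, ← Subgroup.map_sup, ← subgroupOf_sup hKY hMY, ← hY, subgroupOf_self]
    exact map_top_of_surjective f hfs
  -- `Nb` is solvable
  have hNsol : Group.IsSolvable Nb := by
    refine solvable_of_centralizer hF hKC.1 (by rw [normalizer_eq_top]; exact le_top) ?_
    intro n hn hc
    have h1 : n ∈ normalizer (Kb : Set (Y ⧸ Q.subgroupOf Y)) := by
      rw [mem_normalizer_iff]
      intro x
      constructor
      · intro hx
        have := hc x hx
        rw [← this, mul_inv_cancel_right]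
        exact hx
      · intro hx
        have h2 := hc _ hx
        have h3 : x = n * x * n⁻¹ := by
          have h4 : n * x * n⁻¹ * n = n * (n * x * n⁻¹) := h2
          have h5 : n * x = n * (n * x * n⁻¹) := by rw [← h4]; group
          exact mul_left_cancel h5
        rw [h3]; exact hx
    rw [hKC.2] at h1
    have : n ∈ Kb ⊓ Nb := ⟨h1, hn⟩
    rwa [hinf, mem_bot] at this
  have hYsol : Group.IsSolvable (Y ⧸ Q.subgroupOf Y) := by
    haveI := hNsol
    haveI : Group.IsNilpotent Kb := hKC.1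
    have h1 : Group.IsSolvable ((Y ⧸ Q.subgroupOf Y) ⧸ Nb) := by
      refine Group.isSolvable_of_surjective (f := (QuotientGroup.mk' Nb).comp Kb.subtype) ?_
      intro y
      obtain ⟨y, rfl⟩ := QuotientGroup.mk'_surjective Nb y
      have hy : y ∈ Kb ⊔ Nb := hsup ▸ mem_top y
      rw [mem_sup_of_normal_right] at hy
      obtain ⟨k, hk, n, hn, rfl⟩ := hy
      refine ⟨⟨k, hk⟩, ?_⟩
      simp only [MonoidHom.coe_comp, Function.comp_apply, coe_subtype, QuotientGroup.mk'_apply]
      rw [QuotientGroup.eq]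
      simpa using hn
    exact (Group.isSolvable_iff_subgroup_quotient Nb).mpr ⟨hNsol, h1⟩
  obtain ⟨P, hP⟩ := exists_invariant_sylow hYsol Nb hKC hinf hsup l
  set P0 : Subgroup (Y ⧸ Q.subgroupOf Y) := (P : Subgroup (Y ⧸ Q.subgroupOf Y)) ⊓ Nb with hP0
  have hP0n : Kb ≤ normalizer (P0 : Set (Y ⧸ Q.subgroupOf Y)) :=
    le_normalizer_inf hP (le_normalizer_of_normal _ _)
  have hP0p : IsPGroup l P0 := P.2.to_le inf_le_left
  -- pull back
  have hker : f.ker = Q.subgroupOf Y := QuotientGroup.ker_mk' _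
  have hR : (P0.comap f).map Y.subtype ∈ S := by
    refine ⟨?_, ?_, ?_⟩
    · rintro _ ⟨y, hy, rfl⟩
      have h1 : f y ∈ Nb := (mem_comap.mp hy).2
      obtain ⟨m, hm, hmy⟩ := h1
      have h2 : m⁻¹ * y ∈ Q.subgroupOf Y := by
        rw [← QuotientGroup.eq]
        exact hmy
      have h3 := N.mul_mem (mem_inf.mp (mem_subgroupOf.mp hm)).1 (hQN (mem_subgroupOf.mp h2))
      simpa using h3
    · refine IsPGroup.map ?_ Y.subtype
      refine hP0p.comap_of_ker_isPGroup f ?_
      rw [hker]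
      exact hQp.comap_of_injective Y.subtype Y.subtype_injective
    · intro k hk
      have h1 : f ⟨k, hKY hk⟩ ∈ normalizer (P0 : Set (Y ⧸ Q.subgroupOf Y)) :=
        hP0n ⟨⟨k, hKY hk⟩, mem_subgroupOf.mpr hk, rfl⟩
      rw [mem_normalizer_iff] at h1 ⊢
      intro x
      constructor
      · rintro ⟨y, hy, rfl⟩
        refine ⟨⟨k, hKY hk⟩ * y * ⟨k, hKY hk⟩⁻¹, ?_, by simp⟩
        rw [SetLike.mem_coe, mem_comap] at hy ⊢
        rw [map_mul, map_mul, map_inv]
        exact (h1 _).mp hy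
      · rintro ⟨y, hy, hyx⟩
        refine ⟨⟨k, hKY hk⟩⁻¹ * y * ⟨k, hKY hk⟩, ?_, ?_⟩
        · rw [SetLike.mem_coe, mem_comap] at hy ⊢
          rw [map_mul, map_mul, map_inv, h1]
          simpa [mul_assoc] using hy
        · simp only [coe_subtype, coe_mul, coe_inv] at hyx ⊢
          rw [hyx]; group
  have hQR : Q ≤ (P0.comap f).map Y.subtype := by
    intro q hq
    refine ⟨⟨q, hQY hq⟩, ?_, rfl⟩
    rw [SetLike.mem_coe, mem_comap]
    have : f ⟨q, hQY hq⟩ = 1 := (QuotientGroup.eq_one_iff _).mpr (mem_subgroupOf.mpr hq)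
    rw [this]; exact one_mem _
  have hRQ := hmax hR hQR
  have hP0b : P0 = ⊥ := by
    rw [eq_bot_iff]
    intro z hz
    obtain ⟨y, rfl⟩ := hfs z
    have h1 : (y : G) ∈ Q := hRQ ⟨y, hz, rfl⟩
    rw [mem_bot]
    exact (QuotientGroup.eq_one_iff y).mpr (mem_subgroupOf.mpr h1)
  have hlN : ¬ l ∣ Nat.card Nb := by
    intro hd
    obtain ⟨x, hx⟩ := exists_prime_orderOf_dvd_card' l hd
    have h1 : IsPGroup l (zpowers (x : Y ⧸ Q.subgroupOf Y)) := by
      refine IsPGroup.of_card (n := 1) ?_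
      rw [Nat.card_zpowers, orderOf_coe, hx, pow_one]
    obtain ⟨P', hP'⟩ := h1.exists_le_sylow
    obtain ⟨g, hg⟩ := MulAction.exists_smul_eq (Y ⧸ Q.subgroupOf Y) P P'
    have h2 : (x : Y ⧸ Q.subgroupOf Y) ∈ (P' : Subgroup (Y ⧸ Q.subgroupOf Y)) := hP' (mem_zpowers _)
    rw [← hg, Sylow.coe_subgroup_smul, mem_conj_smul_iff] at h2
    have h3 : g⁻¹ * (x : Y ⧸ Q.subgroupOf Y) * g ∈ P0 := by
      refine ⟨h2, ?_⟩
      have := Normal.conj_mem hNbn _ x.2 g⁻¹
      simpa using this
    rw [hP0b, mem_bot] at h3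
    have h4 : (x : Y ⧸ Q.subgroupOf Y) = 1 := by
      calc (x : Y ⧸ Q.subgroupOf Y) = g * (g⁻¹ * x * g) * g⁻¹ := by group
        _ = 1 := by rw [h3]; group
    have h5 : x = 1 := Subtype.ext h4
    rw [h5, orderOf_one] at hx
    exact hl.out.one_lt.ne hx
  intro hd
  refine hlN ?_
  rw [hNb, ← relIndex_ker, hker, relIndex_subgroupOf hMY]
  obtain ⟨n, hn⟩ := IsPGroup.iff_card.mp hQp
  have h1 : Nat.card (Q.subgroupOf N) = l ^ n := by
    rw [← hn]; exact Nat.card_congr (subgroupOfEquivOfLe hQN).toEquiv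
  have h2 : l ^ (n + 1) ∣ Nat.card N := by
    rw [← (Q.subgroupOf N).card_mul_index, h1, pow_succ]
    exact Nat.mul_dvd_mul_left _ hd
  have h3 := Sylow.prime_dvd_card_quotient_normalizer h2 h1
  have h4 : (Q.subgroupOf N).relIndex (normalizer (Q.subgroupOf N : Set N)) = Q.relIndex M := by
    rw [← subgroupOf_normalizer_eq hQN, ← relIndex_subgroupOf (H := Q) (K := M) (L := N) inf_le_left]
    congr 1
    rw [hM, inf_subgroupOf_left]
  rw [← h4]
  exact h3

/-- **Lemma X** for a subgroup `N` normalised by `K`. -/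
theorem lemma_x' (hF : Fpf.{u}) {G : Type u} [Group G] [Finite G]
    (IH : ∀ (B : Type u) [Group B] [Finite B], Nat.card B < Nat.card G → CC B) (N : Subgroup G)
    {K : Subgroup G} (hK : IsCarter K) (hn : K ≤ normalizer (N : Set G)) {l : ℕ} [hl : Fact l.Prime]
    (hKN : IsPGroup l (K ⊓ N : Subgroup G)) :
    ∃ P : Subgroup G, P ≤ N ∧ IsPGroup l P ∧ ¬ l ∣ P.relIndex N ∧ K ≤ normalizer (P : Set G) := by
  set Y : Subgroup G := K ⊔ N with hY
  have hKY : K ≤ Y := le_sup_left
  have hNY : N ≤ Y := le_sup_right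
  haveI : (N.subgroupOf Y).Normal := normal_subgroupOf_of_le_normalizer (sup_le hn le_normalizer)
  have IH' : ∀ (B : Type u) [Group B] [Finite B], Nat.card B < Nat.card Y → CC B := by
    intro B _ _ hB
    exact IH B (hB.trans_le (Nat.le_of_dvd Nat.card_pos (card_subgroup_dvd_card Y)))
  have h1 : IsPGroup l (K.subgroupOf Y ⊓ N.subgroupOf Y : Subgroup Y) := by
    have : K.subgroupOf Y ⊓ N.subgroupOf Y = (K ⊓ N).subgroupOf Y := rfl
    rw [this]
    exact hKN.comap_of_injective Y.subtype Y.subtype_injective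
  obtain ⟨P, hPN, hPp, hPl, hPK⟩ := lemma_x hF IH' (N.subgroupOf Y) (hK.subgroupOf hKY) h1
  refine ⟨P.map Y.subtype, ?_, hPp.map _, ?_, ?_⟩
  · rintro _ ⟨y, hy, rfl⟩
    exact mem_subgroupOf.mp (hPN hy)
  · intro hd
    refine hPl ?_
    rw [← relIndex_subgroupOf hNY] at hd
    have h2 : (P.map Y.subtype).subgroupOf Y = P := by
      ext y
      rw [mem_subgroupOf]
      constructor
      · rintro ⟨z, hz, hzy⟩
        have : z = y := Subtype.ext hzy
        exact this ▸ hz
      · intro hy; exact ⟨y, hy, rfl⟩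
    rwa [h2] at hd
  · intro k hk
    have h2 := hPK (show (⟨k, hKY hk⟩ : Y) ∈ K.subgroupOf Y from mem_subgroupOf.mpr hk)
    rw [mem_normalizer_iff] at h2 ⊢
    intro x
    constructor
    · rintro ⟨y, hy, rfl⟩
      exact ⟨_, (h2 y).mp hy, rfl⟩
    · rintro ⟨y, hy, hyx⟩
      refine ⟨⟨k, hKY hk⟩⁻¹ * y * ⟨k, hKY hk⟩, ?_, ?_⟩
      · rw [SetLike.mem_coe, h2]
        simpa [mul_assoc] using hy
      · simp only [coe_subtype, coe_mul, coe_inv] at hyx ⊢
        rw [hyx]; group

end Cfsg.Agent.H381.Car
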