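import Cfsg.Agent.H381.Car.E6Even
import Cfsg.Agent.H381.Car.SylE6
import Cfsg.Agent.H308.Car.NoSix
import Cfsg.Agent.H18.Carter.Frame

/-!
# Carter subgroups: the rows `E₆^ε(q)`, `q` odd, from `InvZ`, `InvCl`, `SixJ` (S3852, helper381)
-/

set_option autoImplicit false
set_option linter.unusedSectionVars false

namespace Cfsg.Agent.H381.Car

open Subgroup Pointwise
open Cfsg Cfsg.Lie Cfsg.Lie.ChevalleyDatum
open Cfsg.Agent.Solvable.Carter Cfsg.Agent.H18.Carter Cfsg.Agent.H607.Car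

universe u

variable {G : Type u} [Group G] [Finite G] {S : Subgroup G} [S.Normal]

/-- the row from the statements on `X ≅ S` -/
theorem row_of_inv (hF : Fpf.{u}) (c : Ctx G S) {X : Type} [Group X] (e : S ≃* X) {r : ℕ} [Fact r.Prime]
    (hr2 : r ≠ 2) (hI : InvZ r X) (hY : SylInv r X) {t0 : X} (hC : InvCl X t0) (h6 : SixJ X t0) : Row G S := by
  have heven : ∀ K : Subgroup G, IsCarter K → 2 ∣ Nat.card ↥(K ⊓ S) := fun K hK => even_of_invZ hF c e hr2 hI hY hK
  refine ⟨wtAll_of_even heven, cc_of_invCl c e hC heven ?_⟩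
  intro K hK t ht _ hKt _ hconj
  exact H308.Car.no_six hF c e h6 hK ht hKt hconj

/-- the centre of `X ≅ S` -/
theorem center_eq_of_ctx (c : Ctx G S) {X : Type*} [Group X] (e : S ≃* X) : Subgroup.center X = ⊥ := by
  have h0 := c.simple
  have h1 : Subgroup.center ↥S = ⊥ := by
    rcases (inferInstance : (Subgroup.center ↥S).Normal).eq_bot_or_eq_top with h | h
    · exact h
    · exfalso
      refine c.na fun a b => ?_
      have ha : a ∈ Subgroup.center ↥S := h ▸ mem_top a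
      exact (mem_center_iff.1 ha b).symm
  rw [eq_bot_iff]
  intro x hx
  have h2 : e.symm x ∈ Subgroup.center ↥S := by
    rw [mem_center_iff]
    intro y
    apply e.injective
    rw [map_mul, map_mul, e.apply_symm_apply]
    exact mem_center_iff.1 hx _
  rw [h1, mem_bot] at h2
  rw [mem_bot]
  exact (map_eq_one_iff e.symm e.symm.injective).1 h2

/-- **the row `E₆(q)`, `q` odd** -/
theorem row_E6_of (hF : Fpf.{u}) (c : Ctx G S) {K : Type} [Field K] [Finite K] {r : ℕ} [Fact r.Prime] [CharP K r]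
    (hr2 : r ≠ 2) (e : S ≃* ↥(chevE6.group K)) (hI : InvZ r ↥(chevE6.group K)) {t0 : ↥(chevE6.group K)}
    (hC : InvCl _ t0) (h6 : SixJ _ t0) : Row G S :=
  row_of_inv hF c e hr2 hI (sylInv_e6 hr2 (center_eq_of_ctx c e)) hC h6

/-- **the row `²E₆(q)`, `q` odd** -/
theorem row_TwE6_of (hF : Fpf.{u}) (c : Ctx G S) {K : Type} [Field K] [Fintype K] {q : ℕ} (hq : IsPrimePow q)
    (hK : Fintype.card K = q ^ 2) {r : ℕ} [Fact r.Prime] [CharP K r] (hr2 : r ≠ 2) (e : S ≃* ↥(twistedE6 K q))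
    (hI : InvZ r ↥(twistedE6 K q)) {t0 : ↥(twistedE6 K q)} (hC : InvCl _ t0) (h6 : SixJ _ t0) : Row G S :=
  row_of_inv hF c e hr2 hI (sylInv_twE6 hq hK hr2 (center_eq_of_ctx c e)) hC h6

end Cfsg.Agent.H381.Car
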