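import Cfsg.Agent.Solvable.Carter
import Cfsg.Agent.S0569
import Cfsg.Agent.SolvableStructure.SystemNormalizer

/-!
# A Carter complement normalises Sylow subgroups (helper381, for S3852)

`Y` finite solvable, `N` normal, `K` a Carter subgroup of `Y` with `K ⊓ N = ⊥`, `K ⊔ N = ⊤`: then `K` is a system
normalizer, so it normalises a Sylow `ℓ`-subgroup of `Y` (hence of `N`) for every prime `ℓ`.
-/

set_option autoImplicit false

namespace Cfsg.Agent.H381.Car

open Subgroup Pointwise Cfsg.Agent.Solvable.Carter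
open Cfsg.Agent.SolvableStructure

universe u

/-- `K` is a system normalizer. -/
theorem exists_system_eq {Y : Type u} [Group Y] [Finite Y] (hY : Group.IsSolvable Y) (N : Subgroup Y) [N.Normal]
    {K : Subgroup Y} (hK : IsCarter K) (hKN : K ⊓ N = ⊥) (hsup : K ⊔ N = ⊤) :
    ∃ C : Nat.Primes → Subgroup Y, Cfsg.IsComplementSystem C ∧ Cfsg.systemNormalizer C = K := by
  haveI := hY
  obtain ⟨C, hC, hle⟩ := (Cfsg.Agent.S0569.result (G := Y)).1 K hK
  refine ⟨C, hC, le_antisymm hle ?_⟩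
  have hnil : Group.IsNilpotent (Y ⧸ N) := by
    haveI := hK.1
    refine Group.nilpotent_of_surjective ((QuotientGroup.mk' N).comp K.subtype) ?_
    intro y
    obtain ⟨y, rfl⟩ := QuotientGroup.mk'_surjective N y
    have hy : y ∈ K ⊔ N := hsup ▸ mem_top y
    rw [mem_sup_of_normal_right] at hy
    obtain ⟨k, hk, n, hn, rfl⟩ := hy
    refine ⟨⟨k, hk⟩, ?_⟩
    simp only [MonoidHom.coe_comp, Function.comp_apply, coe_subtype, QuotientGroup.mk'_apply]
    rw [QuotientGroup.eq]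
    simpa using hn
  have h1 := SystemNormalizer.sup_systemNormalizer_eq_top hY hC N hnil
  intro k hk
  have hk1 : k ∈ N ⊔ Cfsg.systemNormalizer C := h1 ▸ mem_top k
  rw [mem_sup_of_normal_left] at hk1
  obtain ⟨n, hn, d, hd, rfl⟩ := hk1
  have hn' : n ∈ K ⊓ N := ⟨by
    have := K.mul_mem hk (K.inv_mem (hle hd))
    simpa using this, hn⟩
  rw [hKN, mem_bot] at hn'
  rw [hn', one_mul]
  exact hd

/-- The invariant Sylow subgroup of the complement system. -/
theorem exists_invariant_sylow {Y : Type u} [Group Y] [Finite Y] (hY : Group.IsSolvable Y) (N : Subgroup Y)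
    [N.Normal] {K : Subgroup Y} (hK : IsCarter K) (hKN : K ⊓ N = ⊥) (hsup : K ⊔ N = ⊤) (l : ℕ) [hl : Fact l.Prime] :
    ∃ P : Sylow l Y, K ≤ normalizer ((P : Subgroup Y) : Set Y) := by
  classical
  obtain ⟨C, hC, rfl⟩ := exists_system_eq hY N hK hKN hsup
  set s : Finset Nat.Primes := ((Nat.card Y).primeFactors.attach.image
    (fun q => (⟨q.1, Nat.prime_of_mem_primeFactors q.2⟩ : Nat.Primes))).filter (fun q => (q : ℕ) ≠ l) with hs
  have hmem : ∀ q : Nat.Primes, (q : ℕ) ∣ Nat.card Y → (q : ℕ) ≠ l → q ∈ s := by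
    intro q hq hql
    exact Finset.mem_filter.mpr ⟨Finset.mem_image.mpr
      ⟨⟨(q : ℕ), Nat.mem_primeFactors.mpr ⟨q.2, hq, Nat.card_pos.ne'⟩⟩, Finset.mem_attach _ _, rfl⟩, hql⟩
  have hne : ∀ q ∈ s, (q : ℕ) ≠ l := fun q hq => (Finset.mem_filter.mp hq).2
  set T : Subgroup Y := ⨅ q ∈ s, C q with hT
  have hidx : T.index = ∏ q ∈ s, (C q).index := by
    refine ComplementSystem.index_iInf_of_coprime s C ?_
    intro i _ j _ hij
    rw [hC i, hC j]
    refine Nat.Coprime.pow _ _ ((Nat.coprime_primes i.2 j.2).mpr ?_)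
    exact fun h => hij (Subtype.ext h)
  have hlidx : ¬ l ∣ T.index := by
    rw [hidx, Prime.dvd_finsetProd_iff hl.out.prime]
    rintro ⟨q, hq, hd⟩
    rw [hC q] at hd
    exact hne q hq ((Nat.prime_dvd_prime_iff_eq hl.out q.2).mp (hl.out.dvd_of_dvd_pow hd)).symm
  have hTp : IsPGroup l T := by
    rw [IsPGroup.iff_card]
    refine ⟨_, Nat.eq_prime_pow_of_unique_prime_dvd Nat.card_pos.ne' ?_⟩
    intro q hq hqd
    by_contra hqne
    have h0 : (⟨q, hq⟩ : Nat.Primes) ∈ s :=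
      hmem ⟨q, hq⟩ (hqd.trans (Subgroup.card_subgroup_dvd_card T)) hqne
    have hle : T ≤ C ⟨q, hq⟩ := iInf₂_le _ h0
    have h1 : q ∣ Nat.card (C ⟨q, hq⟩) := hqd.trans (Subgroup.card_dvd_of_le hle)
    have h2 := ComplementSystem.coprime_card_of_index hq (hC ⟨q, hq⟩)
    exact (hq.coprime_iff_not_dvd.mp h2.symm) h1
  refine ⟨hTp.toSylow hlidx, ?_⟩
  intro k hk
  change k ∈ normalizer (T : Set Y)
  rw [mem_normalizer_iff]
  have hk' : ∀ q : Nat.Primes, k ∈ normalizer (C q : Set Y) := by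
    intro q
    exact (iInf_le (fun q : Nat.Primes => normalizer (C q : Set Y)) q) hk
  intro x
  rw [hT, mem_iInf, mem_iInf]
  refine forall_congr' fun q => ?_
  rw [mem_iInf, mem_iInf]
  refine forall_congr' fun _ => ?_
  exact mem_normalizer_iff.mp (hk' q) x

end Cfsg.Agent.H381.Car
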