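import Cfsg.Agent.H381.Car.Conj

/-!
# Carter subgroups in a minimal counterexample: the W-principle and the lifting lemma (S3852, helper381)

* `norm_le_of_carter` : `K ≤ M` and `CC M` give `N_G(M) = M`;
* `w_principle` : `X` normalised by `K`, `K X ≠ G`, `σ ∈ N_G(X)` with `[σ, K] ≤ X` lies in `K X`;
* `norm_le` : `N_G(P) = P C_G(P)` for `P = O_p(K) ≠ 1`;
* `sylow_lift` : `t ∈ Z(K)` a `p`-element, `O_p(K)` Sylow in `C_G(t)`: then `O_p(K)` is Sylow in `G`.
-/

set_option autoImplicit false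
set_option linter.unusedSectionVars false

namespace Cfsg.Agent.H381.Car

open Subgroup Pointwise
open Cfsg.Agent.Solvable.Carter Cfsg.Agent.H18.Carter

universe u

section

variable {G : Type u} [Group G]

/-- A subgroup containing a Carter subgroup `K`, with conjugate Carter subgroups, is its own normaliser. -/
theorem norm_le_of_carter {M K : Subgroup G} (hM : CC M) (hK : IsCarter K) (hKM : K ≤ M) :
    normalizer (M : Set G) ≤ M := by
  intro g hg
  have h1 : MulAut.conj g • K ≤ M := by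
    rw [← cj_eq_self_iff.2 hg]
    exact Subgroup.pointwise_smul_le_pointwise_smul_iff.2 hKM
  obtain ⟨y, hy, hh⟩ := exists_conj_of_le hM (hK.conj g) hK h1 hKM
  rw [cj_cj, cj_eq_self_iff, hK.2] at hh
  have h2 := mul_mem (inv_mem hy) (hKM hh)
  rwa [inv_mul_cancel_left] at h2

/-- **W-principle**, general form. -/
theorem w_principle_of {K X : Subgroup G} (hM : CC ↥(K ⊔ X)) (hK : IsCarter K) {s : G}
    (hs : s ∈ normalizer (X : Set G)) (h : ∀ k ∈ K, s * k * s⁻¹ * k⁻¹ ∈ X) : s ∈ K ⊔ X := by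
  refine norm_le_of_carter hM hK le_sup_left ?_
  have key : ∀ s : G, s ∈ normalizer (X : Set G) → (∀ k ∈ K, s * k * s⁻¹ * k⁻¹ ∈ X) →
      MulAut.conj s • (K ⊔ X) ≤ K ⊔ X := by
    intro s hs h
    rw [Subgroup.smul_sup]
    refine sup_le ?_ ?_
    · intro x hx
      rw [mem_cj] at hx
      have h1 := h _ hx
      have e : x = (s * (s⁻¹ * x * s) * s⁻¹ * (s⁻¹ * x * s)⁻¹) * (s⁻¹ * x * s) := by group
      rw [e]
      exact mul_mem (mem_sup_right h1) (mem_sup_left hx)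
    · rw [cj_eq_self_iff.2 hs]
      exact le_sup_right
  rw [← cj_eq_self_iff]
  refine le_antisymm (key s hs h) ?_
  have h2 : ∀ k ∈ K, s⁻¹ * k * s⁻¹⁻¹ * k⁻¹ ∈ X := by
    intro k hk
    have h3 := h k hk
    have h4 := (mem_normalizer_iff.1 (inv_mem hs) _).1 h3
    have h5 := inv_mem h4
    have e : s⁻¹ * k * s⁻¹⁻¹ * k⁻¹ = (s⁻¹ * (s * k * s⁻¹ * k⁻¹) * s⁻¹⁻¹)⁻¹ := by group
    rw [e]
    exact h5
  have h6 := key s⁻¹ (inv_mem hs) h2
  have h7 : MulAut.conj s • (MulAut.conj s⁻¹ • (K ⊔ X)) ≤ MulAut.conj s • (K ⊔ X) :=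
    Subgroup.pointwise_smul_le_pointwise_smul_iff.2 h6
  rwa [cj_cj, mul_inv_cancel, cj_one] at h7

end

variable {G : Type u} [Group G] [Finite G] {S : Subgroup G} [S.Normal]

/-- **W-principle.** -/
theorem w_principle (c : Ctx G S) {K X : Subgroup G} (hK : IsCarter K) (hne : K ⊔ X ≠ ⊤) {s : G}
    (hs : s ∈ normalizer (X : Set G)) (h : ∀ k ∈ K, s * k * s⁻¹ * k⁻¹ ∈ X) : s ∈ K ⊔ X :=
  w_principle_of (c.sub hne) hK hs h

/-- The normaliser of a subgroup `X ≠ 1, S` of `S` is a proper subgroup. -/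
theorem norm_ne_top_of_lt (c : Ctx G S) {X : Subgroup G} (hX : X ≠ ⊥) (hXS : X ≤ S) (hne : X ≠ S) :
    normalizer (X : Set G) ≠ ⊤ := by
  intro h
  exact hne (le_antisymm hXS (c.le_of_normal (normalizer_eq_top_iff.1 h) hX))

/-- **W-principle** inside `S`: `X` is a `K`-invariant subgroup of `S`, `s ∈ N_S(X)` and `[s, K] ≤ X`. -/
theorem w_principle_S (c : Ctx G S) {K X : Subgroup G} (hK : IsCarter K) (hX : X ≠ ⊥) (hXS : X ≤ S) (hne : X ≠ S)
    (hKX : K ≤ normalizer (X : Set G)) {s : G} (hsS : s ∈ S)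
    (hs : s ∈ normalizer (X : Set G)) (h : ∀ k ∈ K, s * k * s⁻¹ * k⁻¹ ∈ X) : s ∈ (K ⊓ S) ⊔ X := by
  have h1 : K ⊔ X ≠ ⊤ := by
    intro h1
    apply norm_ne_top_of_lt c hX hXS hne
    rw [eq_top_iff, ← h1]
    exact sup_le hKX le_normalizer
  obtain ⟨k, hk, x, hx, rfl⟩ := mul_mem_of_norm' hKX (w_principle c hK h1 hs h)
  refine mul_mem (mem_sup_left ⟨hk, ?_⟩) (mem_sup_right hx)
  have h2 := mul_mem hsS (inv_mem (hXS hx))
  rwa [mul_inv_cancel_right] at h2

/-- **(A3)** `N_G(P) = P C_G(P)` for a direct factor `P ≠ 1` of `K`. -/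
theorem norm_le (c : Ctx G S) {K P : Subgroup G} (hK : IsCarter K) (hP : P ≠ ⊥) (hPK : P ≤ K)
    (hKP : K ≤ P ⊔ centralizer (P : Set G)) : normalizer (P : Set G) ≤ P ⊔ centralizer (P : Set G) := by
  have hPs : Group.IsSolvable P := by
    have := hK.1
    exact Group.isSolvable_of_isSolvable_injective (f := inclusion hPK) (inclusion_injective _)
  have h1 : P ⊔ centralizer (P : Set G) ≤ normalizer (P : Set G) :=
    sup_le le_normalizer (centralizer_le_normalizer _)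
  have h2 : P ⊔ centralizer (P : Set G) ≠ ⊤ := by
    intro h2
    exact c.norm_ne_top hP hPs (top_le_iff.1 (h2 ▸ h1))
  refine le_trans ?_ (norm_le_of_carter (c.sub h2) hK hKP)
  intro g hg
  rw [← cj_eq_self_iff] at hg ⊢
  rw [Subgroup.smul_sup, cj_centralizer, hg]

/-- **Lifting.** `t ∈ Z(K)`, `P = O_p(K)` is a Sylow `p`-subgroup of `C_G(t)`, `t ∈ P`: it is one of `G`. -/
theorem sylow_lift (c : Ctx G S) {K P : Subgroup G} (hK : IsCarter K) {p : ℕ} [hp : Fact p.Prime]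
    (hPp : IsPGroup p P) (hPK : P ≤ K) (hKP : K ≤ P ⊔ centralizer (P : Set G)) {t : G} (ht : t ≠ 1) (htP : t ∈ P)
    (htK : K ≤ centralizer ({t} : Set G)) (hs : ¬ p ∣ P.relIndex (centralizer ({t} : Set G))) : ¬ p ∣ P.index := by
  intro hd
  apply hs
  have hP : P ≠ ⊥ := by
    intro h
    rw [h, mem_bot] at htP
    exact ht htP
  have h1 : normalizer (P : Set G) ≤ centralizer ({t} : Set G) := by
    refine (norm_le c hK hP hPK hKP).trans (sup_le (hPK.trans htK) ?_)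
    intro x hx
    rw [mem_centralizer_singleton_iff]
    exact (hx t htP).symm
  obtain ⟨n, hn⟩ := IsPGroup.iff_card.1 hPp
  have h2 : p ^ (n + 1) ∣ Nat.card G := by
    rw [← Subgroup.card_mul_index P, hn, pow_succ]
    exact mul_dvd_mul_left _ hd
  have h3 := Sylow.prime_dvd_card_quotient_normalizer h2 hn
  have h4 : p ∣ P.relIndex (normalizer (P : Set G)) := h3
  refine h4.trans ?_
  have h5 := Subgroup.relIndex_mul_relIndex P (normalizer (P : Set G)) (centralizer ({t} : Set G)) le_normalizer h1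
  exact ⟨_, h5.symm⟩

end Cfsg.Agent.H381.Car
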